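import Cfsg.Agent.H979.BAdjInv
import Cfsg.Agent.H478.SporBaby
import Cfsg.Agent.CpAutBFive.Final
import Cfsg.Agent.LThreeMB.CoOneFin
import Cfsg.Agent.MFive.JTwo

/-!
# Non-adjacent primes in the Baby Monster (helper979)

`M` the Monster, `t` in the class 2A.

* `three` : `y` of order 3 commuting with `t`: `|C(y) ∩ C(t)|` is prime to 17, 19, 23, 31, 47;
* `five` : `y` of order 5 commuting with a conjugate of `z`: `|C(y)|` is prime to 17, 23, 47;
* `nadj3`, `nadj7`, `not_five` : the statements for `B`.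
-/

set_option autoImplicit false
set_option maxRecDepth 100000

namespace Cfsg.Agent.H979.BAdj

open Cfsg Cfsg.Agent.MonsterX Cfsg.Agent.MonsterX.InstData Cfsg.Agent.MonsterX.MainPack Cfsg.Agent.MonsterU
open Cfsg.Agent.MonsterP Cfsg.Agent.MonsterN Cfsg.Agent.LThree Cfsg.Agent.LThreeMB
open Cfsg.Agent.MonsterX.MainBasic Cfsg.Agent.MonsterX.MainSimple Cfsg.Agent.MonsterX.Model
open Cfsg.Agent.LThreeB (XT mem_XT centXT' conjXT)
open Subgroup (centralizer mem_centralizer_singleton_iff center card_dvd_of_le)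
open Cfsg.Spor (Co1)

/-- the data of a prime `q` for order 3 -/
structure Dat3 (q : ℕ) : Prop where
  prime : q.Prime
  five_le : 5 ≤ q
  sq : ¬ q ^ 2 ∣ 808017424794512875886459904961710757005754368000000000
  th : ¬ q ∣ 3 * 92897280
  fi : ¬ q ∣ 2 * 64561751654400
  suz : ¬ q ∣ 448345497600
  act : ∃ r : ℕ, r.Prime ∧ r ∣ 448345497600 ∧ r ≠ q ∧ ¬ r ∣ q - 1

theorem dat3 {q : ℕ} (h : q ∈ [17, 19, 23, 31, 47]) : Dat3 q := by
  simp only [List.mem_cons, List.not_mem_nil, or_false] at h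
  rcases h with rfl | rfl | rfl | rfl | rfl
  · exact ⟨by norm_num, by norm_num, by norm_num, by norm_num, by norm_num, by norm_num,
      3, by norm_num, by norm_num, by norm_num, by norm_num⟩
  · exact ⟨by norm_num, by norm_num, by norm_num, by norm_num, by norm_num, by norm_num,
      5, by norm_num, by norm_num, by norm_num, by norm_num⟩
  · exact ⟨by norm_num, by norm_num, by norm_num, by norm_num, by norm_num, by norm_num,
      5, by norm_num, by norm_num, by norm_num, by norm_num⟩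
  · exact ⟨by norm_num, by norm_num, by norm_num, by norm_num, by norm_num, by norm_num,
      7, by norm_num, by norm_num, by norm_num, by norm_num⟩
  · exact ⟨by norm_num, by norm_num, by norm_num, by norm_num, by norm_num, by norm_num,
      5, by norm_num, by norm_num, by norm_num, by norm_num⟩

theorem chart : Ch.Chart KDone.K.ι.range KDone.K.z (KChart.eta KDone.lft) (KChart.pi LThreeB.Row.cent) :=
  KChart.chart KDone.lft LThreeB.Row.cent

/-- **Fixed rank 0.** -/
theorem three_zero {q : ℕ} (D : Dat3 q) {y : centralizer ({KDone.K.z} : Set ↥InstData.M.G)} (hy : orderOf y = 3)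
    (hfr : fr (KChart.pi LThreeB.Row.cent y) = 1) :
    ¬ q ∣ Nat.card ↥(centralizer ({(y : ↥InstData.M.G)} : Set ↥InstData.M.G)) := by
  have hfin : Finite ↥InstData.M.G := MThirteen.Row.finite
  have hq : Fact q.Prime := ⟨D.prime⟩
  have h := chart
  have hS : Spor.IsoSuz (XX (KChart.pi LThreeB.Row.cent y)) :=
    CoOneFin.coOne.suz _ (orderOf_pi h hy) hfr
  have hcS : Nat.card (XX (KChart.pi LThreeB.Row.cent y)) = 448345497600 := by
    obtain ⟨e⟩ := hS
    rw [Nat.card_congr e.toEquiv]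
    exact SporadicRecognition.SuzOrder.card_Suz
  obtain ⟨r, hr, hrd, hrq, hr1⟩ := D.act
  have hrf : Fact r.Prime := ⟨hr⟩
  refine MThirteen.not_dvd_zero (r := 3) (p := q) (q := r) (m := 1) Nat.prime_three (by decide)
    (by have := D.five_le; omega) (by have := D.five_le; omega) hrq ?_ ?_ h hy hfr ?_ (Listed.suz hS : Good.{0} _).simple ?_ ?_ ?_ ?_
  · intro i hi1 hi2
    obtain rfl : i = 1 := by omega
    rwa [pow_one]
  · rw [MThirteen.Row.card_M]
    exact D.sq
  · intro d hd hc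
    exact isolated h MThirteen.Row.trNe hy hfr d hd hc
  · rw [hcS]; decide
  · rw [hcS]; exact hrd
  · rw [hcS]; exact D.suz
  · obtain ⟨k, hk1, hk2⟩ := MThirteen.Row.exists_sq_z CoOneFin.coOne hy hfr
    exact ⟨k, hk2, hk1⟩

theorem not_dvd_XT {q : ℕ} {y t : ↥InstData.M.G} (h : ¬ q ∣ Nat.card ↥(centralizer ({y} : Set ↥InstData.M.G))) :
    ¬ q ∣ Nat.card ↥(XT y t) := fun hd => h (hd.trans (card_dvd_of_le inf_le_left))

theorem card_XT_conj {G : Type*} [Group G] (g x t : G) :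
    Nat.card ↥(XT (g * x * g⁻¹) (g * t * g⁻¹)) = Nat.card ↥(XT x t) :=
  (Nat.card_congr (conjXT g x t).toEquiv).symm

/-- **`y` of order 3 in `C(z)`.** -/
theorem three_cent {q : ℕ} (D : Dat3 q) {y : centralizer ({KDone.K.z} : Set ↥InstData.M.G)} (hy : orderOf y = 3)
    {t : ↥InstData.M.G} (ht : orderOf t = 2) (hyt : (y : ↥InstData.M.G) * t = t * y) :
    ¬ q ∣ Nat.card ↥(XT (y : ↥InstData.M.G) t) := by
  have hfin : Finite ↥InstData.M.G := MThirteen.Row.finite
  have hsim : IsSimpleGroup ↥InstData.M.G := MThirteen.Row.simple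
  have h := chart
  have I := CoOneFin.coOne
  have hq2 : q ≠ 2 := by have := D.five_le; omega
  have hy' : orderOf (y : ↥InstData.M.G) = 3 := by rw [Subgroup.orderOf_coe, hy]
  rcases I.ranks (KChart.pi LThreeB.Row.cent y) (orderOf_pi h hy) with h1 | h1 | h1 | h1
  · exact not_dvd_XT (three_zero D hy h1)
  · obtain ⟨x₀, u, g, hx₀, hfr₀, huz, hux, hne, hg⟩ := MThirteen.Row.hasPair
    obtain ⟨k, hk⟩ := conj_six h MThirteen.Row.trNe I.ranks I.six
      (fun x hx h2 => ⟨(good_of_inputs h I hx h2 : Good.{0} _).simple, (good_of_inputs h I hx h2 : Good.{0} _).nc⟩)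
      hx₀ hfr₀ huz hux hne hg hy h1
    have h2 := card_XT_conj k (y : ↥InstData.M.G) t
    rw [hk] at h2
    rw [← h2]
    exact not_dvd_XT (three_zero D hx₀ hfr₀)
  · obtain ⟨e⟩ := LThreeB.isoTh_of_inputs h I hy h1
    obtain ⟨τ, hτ, hd⟩ := card_XT_dvd Nat.prime_three (by norm_num) hy' ht hyt
    rw [LThreeB.card_centralizer_congr e, card_inv_th (by rw [MulEquiv.orderOf_eq, hτ])] at hd
    exact fun h3 => D.th (h3.trans hd)
  · obtain ⟨e⟩ := LThreeB.isoFi_of_inputs h I hy h1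
    obtain ⟨τ, hτ, hd⟩ := card_XT_dvd Nat.prime_three (by norm_num) hy' ht hyt
    rw [LThreeB.card_centralizer_congr e] at hd
    intro h3
    rcases D.prime.dvd_mul.1 (h3.trans hd) with h4 | h4
    · have h5 := (Nat.prime_dvd_prime_iff_eq D.prime Nat.prime_three).1 h4
      have := D.five_le
      omega
    · exact D.fi (fi24_cases h I (by rw [MulEquiv.orderOf_eq, hτ]) D.prime hq2 h4)

/-- **`y` of order 3 commuting with `t` in the class 2A.** -/
theorem three {q : ℕ} (D : Dat3 q) {y t : ↥InstData.M.G} (hy : orderOf y = 3) (ht : LThreeB.Row.TA t)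
    (hyt : y * t = t * y) : ¬ q ∣ Nat.card ↥(XT y t) := by
  obtain ⟨g, hg, -⟩ := LThreeM.FiRow.exists_z_in (x := y) (v := t) (by rw [← hy, pow_orderOf_eq_one]) ht hyt
  have h1 : (g⁻¹ * y * g⁻¹⁻¹) * KDone.K.z = KDone.K.z * (g⁻¹ * y * g⁻¹⁻¹) := by
    calc (g⁻¹ * y * g⁻¹⁻¹) * KDone.K.z = g⁻¹ * (y * (g * KDone.K.z * g⁻¹)) * g := by group
      _ = g⁻¹ * ((g * KDone.K.z * g⁻¹) * y) * g := by rw [hg]
      _ = KDone.K.z * (g⁻¹ * y * g⁻¹⁻¹) := by group
  rw [← card_XT_conj g⁻¹ y t]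
  refine three_cent D (y := ⟨g⁻¹ * y * g⁻¹⁻¹, mem_centralizer_singleton_iff.2 h1⟩) ?_ ?_ ?_
  · rw [← Subgroup.orderOf_coe, ← hy]
    exact MulEquiv.orderOf_eq (MulAut.conj g⁻¹) y
  · rw [← MThirteen.Row.ta_order ht]
    exact MulEquiv.orderOf_eq (MulAut.conj g⁻¹) t
  · exact LThreeB.conj_comm' hyt

/-- **`y` of order 5 commuting with a conjugate of `z`.** -/
theorem five {q : ℕ} (hq : q ∈ [13, 17, 23, 47]) {y : ↥InstData.M.G} (hy : orderOf y = 5)
    (hex : ∃ g : ↥InstData.M.G, (g * KDone.K.z * g⁻¹) * y = y * (g * KDone.K.z * g⁻¹)) :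
    ¬ q ∣ Nat.card ↥(centralizer ({y} : Set ↥InstData.M.G)) := by
  have hfin : Finite ↥InstData.M.G := MThirteen.Row.finite
  have hsim : IsSimpleGroup ↥InstData.M.G := MThirteen.Row.simple
  have : Fact (Nat.Prime 5) := ⟨Nat.prime_five⟩
  have h := KChart.chart KDone.lft MFive.Row.hc
  simp only [List.mem_cons, List.not_mem_nil, or_false] at hq
  have hqp : q.Prime := by rcases hq with rfl | rfl | rfl | rfl <;> norm_num
  have hqf : Fact q.Prime := ⟨hqp⟩
  rcases MFive.Row.cases_model CpAutBFive.Final.coFive (MFiveHN.Closed.hnEight h) hy hex with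
    ⟨⟨e⟩⟩ | ⟨y₀, k, i, hy₀, hfr, hk⟩
  · refine MThirteen.not_dvd_XX Nat.prime_five hqp (by rcases hq with rfl | rfl | rfl | rfl <;> norm_num) hy ?_
    rw [Nat.card_congr e.toEquiv, Cfsg.Agent.S1701.result.2]
    rcases hq with rfl | rfl | rfl | rfl <;> norm_num
  · refine MThirteen.not_dvd_conj Nat.prime_five hy (by rw [Subgroup.orderOf_coe, hy₀]) hk ?_
    have hy₀' : orderOf (KChart.pi MFive.Row.hc y₀) = 5 := MFive.orderOf_pi h Nat.prime_five (by decide) hy₀
    obtain ⟨e⟩ := MFive.JTwo.isoJ2 hy₀' hfr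
    have hc : Nat.card (XX (KChart.pi MFive.Row.hc y₀)) = 604800 :=
      (Nat.card_congr e.toEquiv).trans Cfsg.Agent.S1619.result.2.2.2
    refine MThirteen.not_dvd_zero (r := 5) (p := q) (q := 5) (m := 3) Nat.prime_five (by decide)
      (by rcases hq with rfl | rfl | rfl | rfl <;> norm_num) (by rcases hq with rfl | rfl | rfl | rfl <;> norm_num)
      (by rcases hq with rfl | rfl | rfl | rfl <;> norm_num) ?_ ?_ h hy₀ hfr ?_
      ((MulEquiv.isSimpleGroup_congr e).2 Cfsg.Agent.S1620.result.1) ?_ ?_ ?_ ?_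
    · intro i hi1 hi3
      rcases hq with rfl | rfl | rfl | rfl <;> interval_cases i <;> norm_num
    · rw [MThirteen.Row.card_M]
      rcases hq with rfl | rfl | rfl | rfl <;> norm_num
    · intro d hd hc
      exact MFive.isolated h (MFive.KPair.trNe_five KDone.lft LThreeMBTr.tens MFive.Row.hc) hy₀ hfr d hd hc
    · rw [hc]; decide
    · rw [hc]; norm_num
    · rw [hc]; rcases hq with rfl | rfl | rfl | rfl <;> norm_num
    · exact PreUniq.MonRow.exists_kk Nat.prime_five (by decide) MThirteen.FiveRow.neg_five y₀ hy₀ hfr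

end Cfsg.Agent.H979.BAdj
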