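import Cfsg.Agent.BabyM.Instance
import Cfsg.Agent.KFacts.Baby.RowB
import Cfsg.Agent.KFacts.CoTwo.InnerB
import Cfsg.Agent.H516.OddFrame
import Cfsg.Agent.NotCT.Orders

/-!
# The transpositions of the Baby Monster and `5`-subgroups (helper979)

* `order_le` : the product of two transpositions has order at most 4, in the model;
* `exists_trans` : the class in any `L` with `IsoB L`;
* `inner_b` : all automorphisms are inner;
* `sit_five_le` : no `Sit p a b` in `B` for `p ≥ 5`;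
* `exists_five` : a 5-subgroup of order at least `5 ^ 5` contains an element of order 5 commuting with an involution.
-/

set_option autoImplicit false
set_option maxRecDepth 100000

namespace Cfsg.Agent.H979.BTrans

open Subgroup Cfsg Cfsg.Agent.BabyM Cfsg.Agent.BabyM.Model

section

variable {W : Type} [AddCommGroup W] [Module ℚ W] {M : BData W} {K₀ : Type} [Group K₀]

theorem order_le (A : BAll M K₀) (B : BTrans M) (g k : M.G) :
    orderOf (g * (⟨M.t₀, A.C_le_G A.t₀_C⟩ : M.G) * g⁻¹ * (k * (⟨M.t₀, A.C_le_G A.t₀_C⟩ : M.G) * k⁻¹)) ≤ 4 := by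
  set t : M.G := ⟨M.t₀, A.C_le_G A.t₀_C⟩ with ht
  obtain ⟨j, h, hh, hc⟩ : ((g⁻¹ * k : M.G) : W ≃ₗ[ℚ] W) M.d₀ ∈ M.D :=
    ((A.G_le (g⁻¹ * k).2).2 _).2 A.d₀_mem
  obtain ⟨l, hl, hld, hord⟩ := B.order_le j
  obtain ⟨n, hn0, hn4, hpow⟩ := hord h⁻¹ (M.C.inv_mem hh)
  have h1 := A.conj_t h l ((g⁻¹ * k : M.G) : W ≃ₗ[ℚ] W) (A.C_le hh) (A.G_le hl)
    (A.G_le (g⁻¹ * k).2) (Or.inl (by rw [hld, hc]))
  refine (orderOf_le_of_pow_eq_one hn0 ?_).trans hn4
  apply Subtype.ext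
  have e2 : ((g * t * g⁻¹ * (k * t * k⁻¹) : M.G) : W ≃ₗ[ℚ] W) =
      ((g : W ≃ₗ[ℚ] W) * h) * ((h⁻¹ * M.t₀ * h⁻¹⁻¹) * (l * M.t₀ * l⁻¹)) *
        ((g : W ≃ₗ[ℚ] W) * h)⁻¹ := by
    have e3 : ((g * t * g⁻¹ * (k * t * k⁻¹) : M.G) : W ≃ₗ[ℚ] W) =
        (g : W ≃ₗ[ℚ] W) * (M.t₀ * (((g⁻¹ * k : M.G) : W ≃ₗ[ℚ] W) * M.t₀ *
          ((g⁻¹ * k : M.G) : W ≃ₗ[ℚ] W)⁻¹)) * (g : W ≃ₗ[ℚ] W)⁻¹ := by
      push_cast
      rw [ht]
      group
    rw [e3, ← h1]
    group
  change ((g * t * g⁻¹ * (k * t * k⁻¹) : M.G) : W ≃ₗ[ℚ] W) ^ n = 1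
  rw [e2, conj_pow, hpow, mul_one, mul_inv_cancel]

theorem order_t (A : BAll M K₀) : orderOf (⟨M.t₀, A.C_le_G A.t₀_C⟩ : M.G) = 2 := by
  have : Fact (Nat.Prime 2) := ⟨Nat.prime_two⟩
  refine orderOf_eq_prime (Subtype.ext ?_) (fun h => A.rep.t₀_ne (congrArg Subtype.val h))
  change M.t₀ ^ 2 = 1
  rw [pow_two, A.rep.t₀_sq]

end

universe u

/-- **The transpositions.** -/
theorem exists_trans {L : Type u} [Group L] (h : Spor.IsoB L) : ∃ d : L, orderOf d = 2 ∧
    Nat.card (centralizer ({d} : Set L)) = 306129918735099415756800 ∧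
      ∀ g k : L, orderOf (g * d * g⁻¹ * (k * d * k⁻¹)) ≤ 4 := by
  obtain ⟨e⟩ := KFacts.Baby.RowB.exists_iso h
  have A := Instance.all
  have B := Instance.tr
  refine ⟨e ⟨_, A.C_le_G A.t₀_C⟩, ?_, ?_, ?_⟩
  · rw [MulEquiv.orderOf_eq]
    exact order_t A
  · rw [← A.card_cent B]
    symm
    refine Nat.card_congr ((Subgroup.equivMapOfInjective _ e.toMonoidHom e.injective).trans
      (MulEquiv.subgroupCongr ?_)).toEquiv
    ext g
    rw [mem_map, mem_centralizer_singleton_iff]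
    constructor
    · rintro ⟨c, hc, rfl⟩
      have := mem_centralizer_singleton_iff.1 hc
      show e c * e _ = e _ * e c
      rw [← map_mul, this, map_mul]
    · intro hg
      refine ⟨e.symm g, mem_centralizer_singleton_iff.2 (e.injective ?_), e.apply_symm_apply g⟩
      rw [map_mul, map_mul, e.apply_symm_apply, hg]
  · intro g k
    have h1 := order_le A B (e.symm g) (e.symm k)
    rw [← MulEquiv.orderOf_eq e] at h1
    simpa only [map_mul, map_inv, e.apply_symm_apply] using h1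

/-- all automorphisms of `B` are inner -/
theorem inner_b {L : Type u} [Group L] (h : Spor.IsoB L) (α : MulAut L) : ∃ g : L, ∀ s : L, α s = g * s * g⁻¹ := by
  obtain ⟨e⟩ := KFacts.Baby.RowB.exists_iso h
  have hfin := Instance.all.finite_G
  have h1 := (KFacts.Baby.Sheet.data KFacts.CoTwo.InnerB.inner KFacts.Baby.Row.fix).allInner
  obtain ⟨c, hc⟩ := h1 ((e.trans α).trans e.symm)
  refine ⟨e c, fun s => ?_⟩
  have h2 : ((e.trans α).trans e.symm) (e.symm s) = MulAut.conj c (e.symm s) := by rw [hc]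
  rw [MulEquiv.trans_apply, MulEquiv.trans_apply, e.apply_symm_apply, MulAut.conj_apply] at h2
  rw [← e.apply_symm_apply (α s), h2]
  simp

/-- **`p ≥ 5`.** -/
theorem sit_five_le {L : Type u} [Group L] [Finite L] (h : Spor.IsoB L) {p : ℕ} {a : MulAut L} {b : L}
    (S : H516.Sit p a b) (hp : 5 ≤ p) : False := by
  obtain ⟨d, hd, -, h4⟩ := exists_trans h
  obtain ⟨g, hg⟩ := inner_b h a
  have hdi : d⁻¹ = d := by
    rw [inv_eq_iff_mul_eq_one, ← pow_two, ← hd, pow_orderOf_eq_one]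
  have h1 : (a d)⁻¹ * d = g * d * g⁻¹ * (1 * d * 1⁻¹) := by
    rw [hg, mul_inv_rev, mul_inv_rev, inv_inv, hdi]
    group
  have h2 : (a d)⁻¹ * d = 1 := by
    refine (S.bad d).resolve_right fun hdv => ?_
    have h3 := h4 g 1
    rw [← h1] at h3
    have h5 := Nat.le_of_dvd (orderOf_pos _) hdv
    omega
  have h3 : a d = d := by
    rw [inv_mul_eq_one] at h2
    exact h2
  have h5 : 2 ∣ Nat.card (Cfsg.fixedSubgroup a) := by
    have h7 : d ∈ Cfsg.fixedSubgroup a := h3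
    have h6 : orderOf (⟨d, h7⟩ : Cfsg.fixedSubgroup a) = 2 := by rw [Subgroup.orderOf_mk, hd]
    rw [← h6]
    exact orderOf_dvd_natCard _
  exact (Nat.not_even_iff_odd.2 S.odd) (even_iff_two_dvd.2 h5)

/-- **A 5-subgroup of order at least `5 ^ 5`.** -/
theorem exists_five {L : Type u} [Group L] [Finite L] (h : Spor.IsoB L) {R : Subgroup L} {c : ℕ}
    (hR : Nat.card R = 5 ^ c) (hc : 5 ≤ c) :
    ∃ x ∈ R, orderOf x = 5 ∧ ∃ u : L, orderOf u = 2 ∧ x * u = u * x := by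
  have h5 : Fact (Nat.Prime 5) := ⟨Nat.prime_five⟩
  obtain ⟨d, hd, hcd, -⟩ := exists_trans h
  have hN := NotCT.Orders.b h
  obtain ⟨A, hA⟩ := Sylow.exists_subgroup_card_pow_prime (G := centralizer ({d} : Set L)) 5 (n := 2)
    (by rw [hcd]; norm_num)
  obtain ⟨P, hP⟩ := (IsPGroup.of_card hR).exists_le_sylow
  obtain ⟨P', hP'⟩ := ((IsPGroup.of_card hA).map (centralizer ({d} : Set L)).subtype).exists_le_sylow
  obtain ⟨g, hg⟩ := MulAction.exists_smul_eq L P' P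
  have hPc : Nat.card P = 5 ^ 6 := by
    rw [Sylow.card_eq_multiplicity, hN]
    congr 1
    have h1 : (4154781481226426191177580544000000 : ℕ) = 5 ^ 6 * 265906014798491276235365154816 := by norm_num
    rw [h1, Nat.factorization_mul (by norm_num) (by norm_num), Nat.Prime.factorization_pow Nat.prime_five]
    simp only [Finsupp.add_apply, Finsupp.single_eq_same]
    rw [Nat.factorization_eq_zero_of_not_dvd (by norm_num)]
  let A' : Subgroup L := (A.map (centralizer ({d} : Set L)).subtype).map (MulAut.conj g).toMonoidHom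
  have hA'c : Nat.card A' = 5 ^ 2 := by
    rw [← hA, Nat.card_congr ((A.map (centralizer ({d} : Set L)).subtype).equivMapOfInjective _
      (MulAut.conj g).injective).symm.toEquiv,
      Nat.card_congr (A.equivMapOfInjective _ (centralizer ({d} : Set L)).subtype_injective).symm.toEquiv]
  have hA'P : A' ≤ P := by
    rintro _ ⟨y, hy, rfl⟩
    rw [← hg]
    exact Subgroup.smul_mem_pointwise_smul y (MulAut.conj g) _ (hP' hy)
  have hA'd : ∀ x ∈ A', x * (g * d * g⁻¹) = (g * d * g⁻¹) * x := by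
    rintro _ ⟨_, ⟨y, hy, rfl⟩, rfl⟩
    have h1 : (y : L) * d = d * y := mem_centralizer_singleton_iff.1 y.2
    show g * y * g⁻¹ * (g * d * g⁻¹) = g * d * g⁻¹ * (g * y * g⁻¹)
    calc g * y * g⁻¹ * (g * d * g⁻¹) = g * (y * d) * g⁻¹ := by group
      _ = g * (d * y) * g⁻¹ := by rw [h1]
      _ = _ := by group
  -- the intersection
  have hne : R ⊓ A' ≠ ⊥ := by
    intro hbot
    have h1 : ((R.subgroupOf P) ⊓ (A'.subgroupOf P)).index ≤ (R.subgroupOf P).index * (A'.subgroupOf P).index :=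
      Subgroup.index_inf_le
    have h2 : (R.subgroupOf P) ⊓ (A'.subgroupOf P) = ⊥ := by
      rw [eq_bot_iff]
      intro x hx
      have h3 : (x : L) ∈ R ⊓ A' := ⟨mem_subgroupOf.1 hx.1, mem_subgroupOf.1 hx.2⟩
      rw [hbot, Subgroup.mem_bot] at h3
      exact Subgroup.mem_bot.2 (Subtype.ext h3)
    rw [h2, Subgroup.index_bot, hPc] at h1
    have h3 : Nat.card (R.subgroupOf P) * (R.subgroupOf P).index = 5 ^ 6 := by
      rw [Subgroup.card_mul_index, hPc]
    have h4 : Nat.card (A'.subgroupOf P) * (A'.subgroupOf P).index = 5 ^ 6 := by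
      rw [Subgroup.card_mul_index, hPc]
    rw [Nat.card_congr (subgroupOfEquivOfLe hP).toEquiv, hR] at h3
    rw [Nat.card_congr (subgroupOfEquivOfLe hA'P).toEquiv, hA'c] at h4
    have h6 : 5 ^ 5 ≤ 5 ^ c := Nat.pow_le_pow_right (by norm_num) hc
    have h7 : 5 ^ 5 * (R.subgroupOf P).index ≤ 5 ^ 6 := by
      rw [← h3]
      exact Nat.mul_le_mul_right _ h6
    have h8 : (R.subgroupOf P).index ≤ 5 := by omega
    have h9 : (A'.subgroupOf P).index = 625 := by omega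
    rw [h9] at h1
    have h10 : (R.subgroupOf P).index * 625 ≤ 5 * 625 := Nat.mul_le_mul_right _ h8
    omega
  obtain ⟨x, hx, hx1⟩ : ∃ x : L, x ∈ R ⊓ A' ∧ x ≠ 1 := by
    obtain ⟨x, hx⟩ := (Subgroup.ne_bot_iff_exists_ne_one).1 hne
    exact ⟨(x : L), x.2, fun h => hx (Subtype.ext h)⟩
  obtain ⟨k, hk⟩ := (IsPGroup.of_card hR) ⟨x, hx.1⟩
  have hk' : x ^ 5 ^ k = 1 := congrArg Subtype.val hk
  obtain ⟨i, -, hi⟩ := (Nat.dvd_prime_pow Nat.prime_five).1 (orderOf_dvd_of_pow_eq_one hk')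
  have hi0 : i ≠ 0 := by
    rintro rfl
    rw [pow_zero] at hi
    exact hx1 (orderOf_eq_one_iff.1 hi)
  obtain ⟨j, rfl⟩ := Nat.exists_eq_succ_of_ne_zero hi0
  refine ⟨x ^ 5 ^ j, R.pow_mem hx.1 _, ?_, g * d * g⁻¹, ?_, ?_⟩
  · rw [orderOf_pow_of_dvd (pow_ne_zero _ (by norm_num)) (by rw [hi]; exact pow_dvd_pow 5 (Nat.le_succ j)), hi,
      pow_succ, Nat.mul_div_cancel_left _ (pow_pos (by norm_num) _)]
  · rw [← hd]
    exact MulEquiv.orderOf_eq (MulAut.conj g) d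
  · exact hA'd _ (A'.pow_mem hx.2 _)

end Cfsg.Agent.H979.BTrans
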