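import Cfsg.Agent.H979.OddNum
import Cfsg.Agent.H979.CovTwo
import Cfsg.Agent.H979.BTrans
import Cfsg.Agent.H979.BAdj
import Cfsg.Agent.UGT.End.HN
import Cfsg.Agent.S0205

/-!
# Subgroups of odd order of the Baby Monster; the row `B` of S4094-S4096 (helper979)

* `nadj3`, `nadj7`, `five` : non-adjacent primes in `L` with `IsoB L`;
* `exists_hn` : an element of order 5 with centralizer of even order and `O_p(C(y)) = 1`;
* `card_lt` : **a subgroup of odd order has order `< 2 ^ 41`, or `3 ^ 13 · 5 ^ 6 · 11 · 13`**;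
* `row` : **no `Sit p a b` in `B`**.
-/

set_option autoImplicit false
set_option maxRecDepth 100000

namespace Cfsg.Agent.H979.OddB

open Cfsg Cfsg.Agent.MonsterX Cfsg.Agent.MonsterX.InstData Cfsg.Agent.MonsterX.MainPack Cfsg.Agent.MonsterU
open Cfsg.Agent.MonsterP Cfsg.Agent.MonsterN Cfsg.Agent.LThree Cfsg.Agent.LThreeMB
open Cfsg.Agent.MonsterX.MainBasic Cfsg.Agent.MonsterX.MainSimple Cfsg.Agent.MonsterX.Model
open Cfsg.Agent.LThreeB (XT mem_XT centXT' conjXT)
open Subgroup (centralizer mem_centralizer_singleton_iff center card_dvd_of_le)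
open Cfsg.Spor (Co1)
open Cfsg.Agent.H979.BAdj Cfsg.Agent.H979.CovLift

universe u

theorem exists_cover {L : Type u} [Group L] (h : Spor.IsoB L) : ∃ t : ↥InstData.M.G, LThreeB.Row.TA t ∧
    Nat.card ↥(center ↥(centralizer ({t} : Set ↥InstData.M.G))) = 2 ∧
      Nonempty (↥(centralizer ({t} : Set ↥InstData.M.G)) ⧸ center ↥(centralizer ({t} : Set ↥InstData.M.G)) ≃* L) := by
  obtain ⟨⟨h1, -, ⟨e⟩⟩, -⟩ := ModelB.fieldsKS LitFin.all KDone.lnk KDone.lft (NodesGrp.prel LitFin.H)
    (NodesNe.ne LitFin.H) LitFin.conj_ten Cfsg.Agent.S1704.result KDone.lnk.x₀_mem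
  obtain ⟨g, hg⟩ := ModelB.exists_conj_t LitFin.all.hG LitFin.all.hR KDone.lnk KDone.lft KDone.lnk.x₀_mem
  obtain ⟨f⟩ := h
  exact ⟨_, isConj_iff.2 ⟨g, hg⟩, h1, ⟨e.trans f.symm⟩⟩

theorem orderOf_dvd_of_comm {G : Type*} [Group G] [Finite G] {H : Subgroup G} {b : G} (hb : b ∈ H) :
    orderOf b ∣ Nat.card H := by
  rw [← Subgroup.orderOf_mk b hb]
  exact orderOf_dvd_natCard _

/-- **elements of orders 3 and `q`** -/
theorem nadj3 {L : Type u} [Group L] (h : Spor.IsoB L) {q : ℕ} (hq : q ∈ [17, 19, 23, 31, 47]) {x y : L}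
    (hx : orderOf x = 3) (hy : orderOf y = q) : x * y ≠ y * x := by
  have hfin : Finite ↥InstData.M.G := MThirteen.Row.finite
  obtain ⟨t, ht, h2, ⟨e⟩⟩ := exists_cover h
  have D := dat3 hq
  refine CovLift.ncomm_quot h2 e Nat.prime_three D.prime (by norm_num) (by have := D.five_le; omega) ?_ hx hy
  intro a b ha hb hat hbt hab
  refine three D ha ht hat ?_
  rw [← hb]
  exact orderOf_dvd_of_comm (mem_XT.2 ⟨hab.symm, hbt⟩)

/-- **elements of orders 7 and `q`** -/
theorem nadj7 {L : Type u} [Group L] (h : Spor.IsoB L) {q : ℕ} (hq : q ∈ [11, 13, 19, 23, 31, 47]) {x y : L}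
    (hx : orderOf x = 7) (hy : orderOf y = q) : x * y ≠ y * x := by
  have hfin : Finite ↥InstData.M.G := MThirteen.Row.finite
  obtain ⟨t, ht, h2, ⟨e⟩⟩ := exists_cover h
  have hqp : q.Prime ∧ q ≠ 2 ∧ ¬ q ∣ 4030387200 * 7 := by
    simp only [List.mem_cons, List.not_mem_nil, or_false] at hq
    rcases hq with rfl | rfl | rfl | rfl | rfl | rfl <;> norm_num
  refine CovLift.ncomm_quot h2 e (by norm_num : Nat.Prime 7) hqp.1 (by norm_num) hqp.2.1 ?_ hx hy
  intro a b ha hb hat hbt hab
  apply hqp.2.2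
  rw [← H478.SporBaby.card_cent (v := t) ht ha hat, ← hb]
  exact orderOf_dvd_of_comm (mem_centralizer_singleton_iff.2 hab.symm)

/-- **an element of order 5 commuting with an involution and an element of order `q`** -/
theorem five_comm {L : Type u} [Group L] [Finite L] (h : Spor.IsoB L) {q : ℕ} (hq : q ∈ [13, 17, 23, 47]) {x y w : L}
    (hx : orderOf x = 5) (hy : orderOf y = q) (hw : orderOf w = 2) (hxw : x * w = w * x) : x * y ≠ y * x := by
  intro hxy
  have hfin : Finite ↥InstData.M.G := MThirteen.Row.finite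
  obtain ⟨t, ht, h2, ⟨e⟩⟩ := exists_cover h
  have hqp : q.Prime ∧ q ≠ 2 := by
    simp only [List.mem_cons, List.not_mem_nil, or_false] at hq
    rcases hq with rfl | rfl | rfl | rfl <;> norm_num
  obtain ⟨a, ha, ha'⟩ := exists_lift h2 Nat.prime_five (by norm_num) (x := e.symm x) (by rw [MulEquiv.orderOf_eq, hx])
  obtain ⟨b, hb, hb'⟩ := exists_lift h2 hqp.1 hqp.2 (x := e.symm y) (by rw [MulEquiv.orderOf_eq, hy])
  have ha5 : a ^ 5 = 1 := by rw [← ha, pow_orderOf_eq_one]
  have hab : a * b = b * a := lift_comm le_rfl h2 (by decide : Odd 5) ha5 (by rw [ha', hb', ← map_mul, hxy, map_mul])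
  have h4 : 4 ∣ Nat.card ↥(centralizer ({(a : ↥InstData.M.G)} : Set ↥InstData.M.G)) :=
    four_dvd h2 e (by decide : Odd 5) ha5 hw (by rw [ha', e.apply_symm_apply, hxw])
  have haM : orderOf (a : ↥InstData.M.G) = 5 := by rw [Subgroup.orderOf_coe, ha]
  have hex := (CpAutBFive.EvenRow.cases haM).resolve_right fun h => h h4
  apply BAdj.five hq haM hex
  rw [← hb, ← Subgroup.orderOf_coe b]
  exact orderOf_dvd_of_comm (mem_centralizer_singleton_iff.2 (congrArg Subtype.val hab).symm)

/-- **An element of order 5 with `C(x)/⟨x⟩ ≅ HN` in the Monster**: its image in `B`. -/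
theorem exists_hn {L : Type u} [Group L] [Finite L] (h : Spor.IsoB L) {p : ℕ} (hp : p.Prime) (hp2 : p ≠ 2)
    (hp5 : p ≠ 5) : ∃ y : L, orderOf y = 5 ∧ 2 ∣ Nat.card ↥(centralizer ({y} : Set L)) ∧
      pCore p ↥(centralizer ({y} : Set L)) = ⊥ := by
  have hfin : Finite ↥InstData.M.G := MThirteen.Row.finite
  have h2f : Fact (Nat.Prime 2) := ⟨Nat.prime_two⟩
  have h5f : Fact (Nat.Prime 5) := ⟨Nat.prime_five⟩
  obtain ⟨f⟩ := h
  obtain ⟨x, s, hs, hx, hHN, hxt⟩ := H573.Spor.Monster.exists_pair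
  obtain ⟨⟨h2, -, ⟨e⟩⟩, -⟩ := ModelB.fieldsKS LitFin.all KDone.lnk KDone.lft (NodesGrp.prel LitFin.H)
    (NodesNe.ne LitFin.H) LitFin.conj_ten Cfsg.Agent.S1704.result hs
  have ht : orderOf (KDone.K.ι s) = 2 := by
    refine orderOf_eq_prime ?_ ?_
    · rw [← map_pow, pow_two, KDone.lft.sh_sq s hs, map_one]
    · intro h1
      have h3 : s = 1 := InvTwo.ι_inj KDone.lft (h1.trans (map_one _).symm)
      have h4 := (TwoCls.mem_Sh_iff KDone.lft s).1 hs
      rw [h3, TwoCls.clP_one] at h4
      exact CloseLat.ne_zero_of_two h4 rfl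
  generalize KDone.K.ι s = t at *
  obtain ⟨x', rfl⟩ : ∃ x' : ↥(centralizer ({t} : Set ↥InstData.M.G)), (x' : ↥InstData.M.G) = x :=
    ⟨⟨x, mem_centralizer_singleton_iff.2 hxt⟩, rfl⟩
  rw [Subgroup.orderOf_coe] at hx
  have hcop : (Nat.card ↥(center ↥(centralizer ({t} : Set ↥InstData.M.G)))).Coprime 5 := by rw [h2]; norm_num
  let e' := e.trans f.symm
  refine ⟨e' (QuotientGroup.mk x'), ?_, ?_, ?_⟩
  · rw [MulEquiv.orderOf_eq]
    exact Red.orderOf_mk Nat.prime_five _ hcop hx
  · refine two_dvd h2 e' Nat.prime_five (by norm_num) ht hx fun τ hτ => ?_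
    obtain ⟨eH⟩ := hHN
    rw [LThreeB.card_centralizer_congr eH]
    rcases Cfsg.Agent.SigZeroHN.card_centralizer_cases (u := eH τ)
      (by rw [MulEquiv.orderOf_eq]; exact hτ) with ⟨-, h5⟩ | ⟨-, h5⟩ <;> rw [h5] <;> norm_num
  · refine core_bot h2 e' Nat.prime_five (by norm_num) hp hp2 hp5 ht hx fun τ hτ => ?_
    have hs' := MFive.simple_of_isoHN hHN
    refine UGT.End.HN.lb_of_iso hHN (XX (x' : ↥InstData.M.G)) ⊤ inferInstance ⟨Subgroup.topEquiv.symm⟩ ?_ τ hτ
    rw [Subgroup.coe_top, Subgroup.centralizer_univ]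
    have hsim := hs'.1
    rcases (inferInstance : (center (XX (x' : ↥InstData.M.G))).Normal).eq_bot_or_eq_top with h3 | h3
    · exact h3
    · exact absurd h3 hs'.2.1

/-- **Orders of the subgroups of odd order.** -/
theorem card_lt {L : Type u} [Group L] [Finite L] (h : Spor.IsoB L) (F : Subgroup L) (ho : Odd (Nat.card F)) :
    Nat.card F < 2 ^ 41 ∨ Nat.card F = 3 ^ 13 * 5 ^ 6 * 11 * 13 := by
  have hsolv : Group.IsSolvable F := Cfsg.Agent.S0205.result ho
  have hN := NotCT.Orders.b h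
  have hF : Nat.card F ∣ 4154781481226426191177580544000000 := by
    rw [← hN]
    exact Subgroup.card_subgroup_dvd_card F
  have hdvd : Nat.card F ∣ 1889375872099856765625 := by
    have h1 : Nat.card F ∣ 2 ^ 41 * 1889375872099856765625 := by
      rwa [show 2 ^ 41 * 1889375872099856765625 = 4154781481226426191177580544000000 by norm_num]
    exact (Nat.Coprime.pow_right 41 (Nat.coprime_two_right.2 ho)).dvd_of_dvd_mul_left h1
  have hnd : ∀ m : ℕ, ¬ m ∣ 1889375872099856765625 → ¬ m ∣ Nat.card F := fun m hm hd => hm (hd.trans hdvd)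
  have n3 : ∀ q ∈ [17, 19, 23, 31, 47], ∀ x y : F, orderOf x = 3 → orderOf y = q → x * y ≠ y * x := by
    intro q hq x y hx hy hxy
    exact nadj3 h hq (x := (x : L)) (y := (y : L)) (by rw [Subgroup.orderOf_coe, hx])
      (by rw [Subgroup.orderOf_coe, hy]) (congrArg Subtype.val hxy)
  have n7 : ∀ q ∈ [11, 13, 19, 23, 31, 47], ∀ x y : F, orderOf x = 7 → orderOf y = q → x * y ≠ y * x := by
    intro q hq x y hx hy hxy
    exact nadj7 h hq (x := (x : L)) (y := (y : L)) (by rw [Subgroup.orderOf_coe, hx])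
      (by rw [Subgroup.orderOf_coe, hy]) (congrArg Subtype.val hxy)
  have n5 : ∀ q ∈ [17, 23, 47], (∀ i < 7, 1 ≤ i → ¬ q ∣ 5 ^ i - 1) → ¬ 5 ∣ q - 1 → q.Prime → q ≠ 5 →
      ¬ q ^ 2 ∣ 1889375872099856765625 → 5 ^ 5 ∣ Nat.card F → ¬ q ∣ Nat.card F := by
    intro q hq hchk hq1 hqp hq5 hq2 h55 hqF
    obtain ⟨c, hc5, hc6, hcF, hcF'⟩ : ∃ c, 5 ≤ c ∧ c ≤ 6 ∧ 5 ^ c ∣ Nat.card F ∧ ¬ 5 ^ (c + 1) ∣ Nat.card F := by
      by_cases h56 : 5 ^ 6 ∣ Nat.card F
      · exact ⟨6, by norm_num, le_rfl, h56, hnd _ (by norm_num)⟩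
      · exact ⟨5, le_rfl, by norm_num, h55, h56⟩
    obtain ⟨y, R, hy, hR, hyR⟩ := OddNum.exists_comm Nat.prime_five hqp hq5.symm hsolv hqF (hnd _ hq2) hcF hcF'
      (fun i hi => hchk i (by omega)) hq1
    obtain ⟨x, ⟨r, hr, rfl⟩, hx, w, hw, hxw⟩ := BTrans.exists_five h (R := R.map F.subtype) (c := c)
      (by rw [Nat.card_congr (R.equivMapOfInjective _ F.subtype_injective).symm.toEquiv, hR]) hc5
    refine five_comm h (q := q) (y := (y : L)) ?_ hx (by rw [Subgroup.orderOf_coe, hy]) hw hxw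
      (congrArg Subtype.val (hyR r hr)).symm
    simp only [List.mem_cons, List.not_mem_nil, or_false] at hq ⊢
    tauto
  refine OddNum.flow_num hdvd ?_ ?_ ?_ ?_ ?_ ?_ ?_ ?_ ?_ ?_ ?_ ?_ ?_ ?_
  · intro hq
    have := OddNum.not_dvd_of_split (s := 3) (q := 17) (K := 13) (k := 0) (by norm_num) (by norm_num) (by norm_num) hsolv hq
      (hnd _ (by norm_num)) (n3 17 (by simp)) (hnd _ (by norm_num)) (by decide +kernel)
    simpa using this
  · intro hq
    have := OddNum.not_dvd_of_split (s := 3) (q := 47) (K := 13) (k := 0) (by norm_num) (by norm_num) (by norm_num) hsolv hq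
      (hnd _ (by norm_num)) (n3 47 (by simp)) (hnd _ (by norm_num)) (by decide +kernel)
    simpa using this
  · intro hq
    exact OddNum.not_dvd_of_split (s := 3) (q := 31) (K := 13) (k := 1) (by norm_num) (by norm_num) (by norm_num) hsolv hq
      (hnd _ (by norm_num)) (n3 31 (by simp)) (hnd _ (by norm_num)) (by decide +kernel)
  · intro hq
    exact OddNum.not_dvd_of_split (s := 3) (q := 19) (K := 13) (k := 2) (by norm_num) (by norm_num) (by norm_num) hsolv hq
      (hnd _ (by norm_num)) (n3 19 (by simp)) (hnd _ (by norm_num)) (by decide +kernel)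
  · intro hq
    exact OddNum.not_dvd_of_split (s := 3) (q := 23) (K := 13) (k := 11) (by norm_num) (by norm_num) (by norm_num) hsolv hq
      (hnd _ (by norm_num)) (n3 23 (by simp)) (hnd _ (by norm_num)) (by decide +kernel)
  · intro hq
    have := OddNum.not_dvd_of_split (s := 7) (q := 11) (K := 2) (k := 0) (by norm_num) (by norm_num) (by norm_num) hsolv hq
      (hnd _ (by norm_num)) (n7 11 (by simp)) (hnd _ (by norm_num)) (by decide +kernel)
    simpa using this
  · intro hq
    have := OddNum.not_dvd_of_split (s := 7) (q := 13) (K := 2) (k := 0) (by norm_num) (by norm_num) (by norm_num) hsolv hq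
      (hnd _ (by norm_num)) (n7 13 (by simp)) (hnd _ (by norm_num)) (by decide +kernel)
    simpa using this
  · intro hq
    have := OddNum.not_dvd_of_split (s := 7) (q := 19) (K := 2) (k := 0) (by norm_num) (by norm_num) (by norm_num) hsolv hq
      (hnd _ (by norm_num)) (n7 19 (by simp)) (hnd _ (by norm_num)) (by decide +kernel)
    simpa using this
  · intro hq
    have := OddNum.not_dvd_of_split (s := 7) (q := 23) (K := 2) (k := 0) (by norm_num) (by norm_num) (by norm_num) hsolv hq
      (hnd _ (by norm_num)) (n7 23 (by simp)) (hnd _ (by norm_num)) (by decide +kernel)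
    simpa using this
  · intro hq
    have := OddNum.not_dvd_of_split (s := 7) (q := 31) (K := 2) (k := 0) (by norm_num) (by norm_num) (by norm_num) hsolv hq
      (hnd _ (by norm_num)) (n7 31 (by simp)) (hnd _ (by norm_num)) (by decide +kernel)
    simpa using this
  · intro hq
    have := OddNum.not_dvd_of_split (s := 7) (q := 47) (K := 2) (k := 0) (by norm_num) (by norm_num) (by norm_num) hsolv hq
      (hnd _ (by norm_num)) (n7 47 (by simp)) (hnd _ (by norm_num)) (by decide +kernel)
    simpa using this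
  · exact n5 17 (by simp) (by decide +kernel) (by norm_num) (by norm_num) (by norm_num) (by norm_num)
  · exact n5 23 (by simp) (by decide +kernel) (by norm_num) (by norm_num) (by norm_num) (by norm_num)
  · exact n5 47 (by simp) (by decide +kernel) (by norm_num) (by norm_num) (by norm_num) (by norm_num)

/-- a subgroup of order divisible by `5 ^ 6` contains a conjugate of every element of order 5 -/
theorem exists_conj_mem {L : Type u} [Group L] [Finite L] (h : Spor.IsoB L) {F : Subgroup L} (hF : 5 ^ 6 ∣ Nat.card F)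
    {y : L} (hy : orderOf y = 5) : ∃ g : L, g * y * g⁻¹ ∈ F := by
  have h5 : Fact (Nat.Prime 5) := ⟨Nat.prime_five⟩
  have hN := NotCT.Orders.b h
  obtain ⟨R, hR⟩ := Sylow.exists_subgroup_card_pow_prime (G := F) 5 hF
  obtain ⟨P, hP⟩ := ((IsPGroup.of_card hR).map F.subtype).exists_le_sylow
  have hPc : Nat.card P = 5 ^ 6 := by
    rw [Sylow.card_eq_multiplicity, hN]
    congr 1
    have h1 : (4154781481226426191177580544000000 : ℕ) = 5 ^ 6 * 265906014798491276235365154816 := by norm_num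
    rw [h1, Nat.factorization_mul (by norm_num) (by norm_num), Nat.Prime.factorization_pow Nat.prime_five]
    simp only [Finsupp.add_apply, Finsupp.single_eq_same]
    rw [Nat.factorization_eq_zero_of_not_dvd (by norm_num)]
  have hRP : R.map F.subtype = P := by
    apply Subgroup.eq_of_le_of_card_ge hP
    rw [Nat.card_congr (R.equivMapOfInjective _ F.subtype_injective).symm.toEquiv, hR, hPc]
  obtain ⟨P', hP'⟩ := (IsPGroup.of_card (n := 1) (p := 5) (G := Subgroup.zpowers y)
    (by rw [Nat.card_zpowers, hy, pow_one])).exists_le_sylow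
  obtain ⟨g, hg⟩ := MulAction.exists_smul_eq L P' P
  refine ⟨g, ?_⟩
  have h1 : g * y * g⁻¹ ∈ P := by
    rw [← hg]
    exact Subgroup.smul_mem_pointwise_smul y (MulAut.conj g) _ (hP' (Subgroup.mem_zpowers y))
  have h2 : g * y * g⁻¹ ∈ R.map F.subtype := by
    rw [hRP]
    exact h1
  obtain ⟨r, -, hr⟩ := h2
  rw [← hr]
  exact r.2

/-- **The row of the Baby Monster.** -/
theorem row {L : Type u} [Group L] [Finite L] (h : Spor.IsoB L) {p : ℕ} {a : MulAut L} {b : L} (S : H516.Sit p a b) :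
    False := by
  rcases Nat.lt_or_ge p 5 with hp5 | hp5
  · have hp3 : p ≠ 5 := by omega
    have h41 : 2 ^ 41 ≤ Nat.card (fixedSubgroup a) := by
      apply S.two_pow_le
      rw [NotCT.Orders.b h]
      norm_num
    rcases card_lt h (fixedSubgroup a) S.odd with h1 | h1
    · omega
    · obtain ⟨y, hy, hy2, hyc⟩ := exists_hn h S.prime S.ne_two hp3
      obtain ⟨g, hg⟩ := exists_conj_mem h (F := fixedSubgroup a) (by rw [h1]; norm_num) hy
      have hfix : a (g * y * g⁻¹) = g * y * g⁻¹ := hg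
      -- transport to the conjugate
      have hmap : (centralizer ({y} : Set L)).map (MulAut.conj g).toMonoidHom = centralizer ({g * y * g⁻¹} : Set L) := by
        ext k
        rw [Subgroup.mem_map_equiv, mem_centralizer_singleton_iff, mem_centralizer_singleton_iff,
          MulAut.conj_symm_apply]
        constructor
        · intro h3
          calc k * (g * y * g⁻¹) = g * (g⁻¹ * k * g * y) * g⁻¹ := by group
            _ = g * (y * (g⁻¹ * k * g)) * g⁻¹ := by rw [h3]
            _ = _ := by group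
        · intro h3
          calc g⁻¹ * k * g * y = g⁻¹ * (k * (g * y * g⁻¹)) * g := by group
            _ = g⁻¹ * (g * y * g⁻¹ * k) * g := by rw [h3]
            _ = _ := by group
      let ec : ↥(centralizer ({y} : Set L)) ≃* ↥(centralizer ({g * y * g⁻¹} : Set L)) :=
        ((centralizer ({y} : Set L)).equivMapOfInjective _ (MulAut.conj g).injective).trans
          (MulEquiv.subgroupCongr hmap)
      have hO : pCore p ↥(centralizer ({g * y * g⁻¹} : Set L)) = ⊥ := by
        rw [← Lib.Cores.map_equiv_pCore ec p, hyc, Subgroup.map_bot]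
      have hne : g * y * g⁻¹ ≠ 1 := by
        intro h3
        have h4 : y = 1 := by
          have h5 : y = g⁻¹ * (g * y * g⁻¹) * g := by group
          rw [h5, h3]
          group
        rw [h4, orderOf_one] at hy
        norm_num at hy
      have h3 := S.bad.centralizer_le S.prime S.ih S.good.center hne hfix hO
      have h4 : 2 ∣ Nat.card (fixedSubgroup a) := by
        refine Dvd.dvd.trans ?_ (card_dvd_of_le h3)
        rwa [← Nat.card_congr ec.toEquiv]
      exact (Nat.not_even_iff_odd.2 S.odd) (even_iff_two_dvd.2 h4)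
  · exact BTrans.sit_five_le h S hp5

end Cfsg.Agent.H979.OddB
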