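import Cfsg.Agent.FixBN.Split

/-!
# `p'`-automorphisms of a group with a split (B,N)-pair of characteristic `p` (helper979)

`eq_one_of_hasSplit`: `K` finite with a split (B,N)-pair of characteristic `p`, `α` an automorphism of order
prime to `p` fixing a Sylow `p`-subgroup elementwise; then `α = 1`.
-/

set_option autoImplicit false

namespace Cfsg.Agent.H979.SplitAut

open Cfsg.Agent.FixBN Cfsg.Agent.Schreier.BNSch

variable {K : Type*} [Group K] {P : Cfsg.BNPair K} {p : ℕ} {U : Subgroup K}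

/-- `φ` has order prime to `p` and fixes `U` elementwise. -/
structure Good (p : ℕ) (U : Subgroup K) (φ : MulAut K) : Prop where
  ord : ∃ n : ℕ, n.Coprime p ∧ φ ^ n = 1
  fix : ∀ u ∈ U, φ u = u

theorem Good.inv {φ : MulAut K} (h : Good p U φ) : Good p U φ⁻¹ := by
  refine ⟨?_, fun u hu => ?_⟩
  · obtain ⟨n, hn, hφ⟩ := h.ord
    exact ⟨n, hn, by rw [inv_pow, hφ, inv_one]⟩
  · conv_lhs => rw [← h.fix u hu]
    exact MulAut.inv_apply_self _ _ _

theorem mem_B_iff (h : Split P p U) {b : K} : b ∈ P.B ↔ ∀ u : K, u ∈ U ↔ b * u * b⁻¹ ∈ U := by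
  rw [← h.normalizer_eq, Subgroup.mem_normalizer_iff]

theorem Good.apply_mem_B {φ : MulAut K} (hφ : Good p U φ) (h : Split P p U) {b : K} (hb : b ∈ P.B) :
    φ b ∈ P.B := by
  have key : ∀ c ∈ P.B, ∀ u ∈ U, φ c * u * (φ c)⁻¹ ∈ U := by
    intro c hc u hu
    have h1 : φ (c * u * c⁻¹) = φ c * u * (φ c)⁻¹ := by
      rw [map_mul, map_mul, map_inv, hφ.fix u hu]
    rw [← h1, hφ.fix _ (h.norm c hc u hu)]
    exact h.norm c hc u hu
  rw [mem_B_iff h]
  intro u
  refine ⟨fun hu => key b hb u hu, fun hu => ?_⟩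
  have h2 := key b⁻¹ (inv_mem hb) _ hu
  rw [map_inv] at h2
  have h3 : (φ b)⁻¹ * (φ b * u * (φ b)⁻¹) * ((φ b)⁻¹)⁻¹ = u := by group
  rwa [h3] at h2

theorem Good.map_B {φ : MulAut K} (hφ : Good p U φ) (h : Split P p U) :
    P.B.map φ.toMonoidHom = P.B := by
  apply le_antisymm
  · rintro _ ⟨b, hb, rfl⟩
    exact hφ.apply_mem_B h hb
  · intro b hb
    exact ⟨φ⁻¹ b, hφ.inv.apply_mem_B h hb, MulAut.apply_inv_self _ _ _⟩

theorem mem_of_pow_mem {W : Subgroup K} (hU : IsPGroup p U) {u : K} (hu : u ∈ U) {n : ℕ}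
    (hn : n.Coprime p) (h : u ^ n ∈ W) : u ∈ W := by
  obtain ⟨m, hm⟩ := hU ⟨u, hu⟩
  have hm' : u ^ p ^ m = 1 := by simpa using congrArg Subtype.val hm
  have hc : IsCoprime (n : ℤ) ((p ^ m : ℕ) : ℤ) := (Nat.isCoprime_iff_coprime).2 (hn.pow_right m)
  obtain ⟨a, b, hab⟩ := hc
  have h1 : u = (u ^ n) ^ a * (u ^ p ^ m) ^ b := by
    rw [← zpow_natCast, ← zpow_natCast, ← zpow_mul, ← zpow_mul, ← zpow_add, mul_comm (n : ℤ),
      mul_comm (((p ^ m : ℕ)) : ℤ), hab, zpow_one]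
  rw [h1, hm', one_zpow, mul_one]
  exact W.zpow_mem h a

theorem eq_one_of_pow (hU : IsPGroup p U) {u : K} (hu : u ∈ U) {n : ℕ}
    (hn : n.Coprime p) (h : u ^ n = 1) : u = 1 := by
  have := mem_of_pow_mem (W := ⊥) hU hu hn (Subgroup.mem_bot.2 h)
  exact Subgroup.mem_bot.1 this

/-- `φ` preserves the minimal parabolic subgroups. -/
theorem Good.apply_mem_parabolic [Finite K] {φ : MulAut K} (hφ : Good p U φ) (h : Split P p U) {s : K}
    (hs : s ∈ P.S) : ∀ g ∈ P.parabolic {s}, φ g ∈ P.parabolic {s} := by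
  obtain ⟨t, ht, hmap⟩ := exists_map_eq P φ (hφ.map_B h) hs
  have hst : s = t := by
    by_contra hne
    obtain ⟨V, hV⟩ := h.node s hs
    obtain ⟨V', hV'⟩ := h.node t ht
    have hsnt : s ∉ P.parabolic {t} := by
      intro hst
      have h1 : P.parabolic {s} ≤ P.parabolic {t} :=
        sup_le (B_le_parabolic P _) ((Subgroup.closure_le _).2 (Set.singleton_subset_iff.2 hst))
      rw [parabolic_le_iff P (Set.singleton_subset_iff.2 hs) (Set.singleton_subset_iff.2 ht)] at h1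
      exact hne (Set.mem_singleton_iff.1 (Set.singleton_subset_iff.1 h1))
    have hVV : V ≤ V' := by
      intro v hv
      obtain ⟨g, hg, hgt⟩ : t ∈ (P.parabolic {s}).map φ.toMonoidHom := by
        rw [hmap]; exact mem_parabolic_self P t
      have hgt' : φ g = t := hgt
      have h1 : t⁻¹ * v * t = g⁻¹ * v * g := by
        rw [← hφ.fix _ (hV.le (hV.conj_mem hg hv)), map_mul, map_mul, map_inv, hgt',
          hφ.fix v (hV.le hv)]
      refine hV'.stab v (hV.le hv) ?_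
      rw [h1]
      exact h.le (hV.le (hV.conj_mem hg hv))
    have hVV' : V' ≤ V := by
      intro v hv
      have hφs : φ s ∈ P.parabolic {t} := by
        rw [← hmap]
        exact ⟨s, mem_parabolic_self P s, rfl⟩
      have h1 : (φ s)⁻¹ * v * φ s ∈ V' := hV'.conj_mem hφs hv
      have h2 : s⁻¹ * v * s = (φ s)⁻¹ * v * φ s := by
        apply φ.injective
        rw [map_mul, map_mul, map_inv, hφ.fix v (hV'.le hv), hφ.fix _ (hV'.le h1)]
      refine hV.stab v (hV'.le hv) ?_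
      rw [h2]
      exact h.le (hV'.le h1)
    obtain ⟨u₂, hu₂, hu₂V⟩ := hV'.ne
    rcases P.mul_mem_union s hs t (P.subset ht) u₂ (h.le hu₂) with h1 | h1
    · rw [DoubleCoset.mem_doubleCoset] at h1
      obtain ⟨x, hx, y, hy, hxy⟩ := h1
      obtain ⟨u, hu, d, hd, rfl⟩ := h.cover' hx
      have hn : (s * t)⁻¹ * d * ((s * t)⁻¹)⁻¹ ∈ P.B :=
        P.conj_mem _ (P.N.inv_mem (P.N.mul_mem (P.subset hs) (P.subset ht))) _ hd
      set y' : K := (s * t)⁻¹ * d * ((s * t)⁻¹)⁻¹ * y with hy'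
      have hy'B : y' ∈ P.B := mul_mem hn hy
      have hxy' : s * u₂ * t = u * (s * t) * y' := by
        rw [hxy, hy']; group
      -- `z = s⁻¹ u⁻¹ s`
      have hz : s⁻¹ * u⁻¹ * s = t * y' * t⁻¹ * u₂⁻¹ := by
        have : s⁻¹ * u⁻¹ * (s * u₂ * t) * t⁻¹ * u₂⁻¹ = s⁻¹ * u⁻¹ * (u * (s * t) * y') * t⁻¹ * u₂⁻¹ := by
          rw [hxy']
        calc s⁻¹ * u⁻¹ * s = s⁻¹ * u⁻¹ * (s * u₂ * t) * t⁻¹ * u₂⁻¹ := by group
          _ = _ := this
          _ = _ := by group
      have htt := mem_parabolic_self P t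
      have hBt := B_le_parabolic P {t}
      have hzt : s⁻¹ * u⁻¹ * s ∈ P.parabolic {t} := by
        rw [hz]
        exact mul_mem (mul_mem (mul_mem htt (hBt hy'B)) (inv_mem htt)) (inv_mem (hBt (h.le hu₂)))
      have hss := mem_parabolic_self P s
      have hBs := B_le_parabolic P {s}
      have hzs : s⁻¹ * u⁻¹ * s ∈ P.parabolic {s} :=
        mul_mem (mul_mem (inv_mem hss) (inv_mem (hBs (h.le hu)))) hss
      by_cases huV : u ∈ V
      · have h3 : s⁻¹ * u⁻¹ * s ∈ V := hV.conj_s _ (inv_mem huV)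
        have h4 : t⁻¹ * (s⁻¹ * u⁻¹ * s) * t ∈ V' := hV'.conj_s _ (hVV h3)
        have h5 : t⁻¹ * u₂ * t = (t⁻¹ * (s⁻¹ * u⁻¹ * s) * t)⁻¹ * y' := by
          rw [hz]; group
        apply hu₂V
        apply hV'.stab u₂ hu₂
        rw [h5]
        exact mul_mem (inv_mem (h.le (hV'.le h4))) hy'B
      · have hzB : s⁻¹ * u⁻¹ * s ∉ P.B := by
          intro hb
          exact huV (by simpa using inv_mem (hV.stab _ (inv_mem hu) hb))
        rcases mem_parabolic_singleton P hs hzs with h3 | ⟨b, hb, b', hb', h3⟩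
        · exact hzB h3
        · apply hsnt
          have h4 : s = b⁻¹ * (s⁻¹ * u⁻¹ * s) * b'⁻¹ := by rw [h3]; group
          rw [h4]
          exact mul_mem (mul_mem (inv_mem (hBt hb)) hzt) (inv_mem (hBt hb'))
    · rw [DoubleCoset.mem_doubleCoset] at h1
      obtain ⟨x, hx, y, hy, hxy⟩ := h1
      apply hsnt
      have htt := mem_parabolic_self P t
      have hBt := B_le_parabolic P {t}
      have h4 : s = x * t * y * t⁻¹ * u₂⁻¹ := by rw [← hxy]; group
      rw [h4]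
      exact mul_mem (mul_mem (mul_mem (mul_mem (hBt hx) htt) (hBt hy)) (inv_mem htt))
        (inv_mem (hBt (h.le hu₂)))
  subst hst
  intro g hg
  rw [← hmap]
  exact ⟨g, hg, rfl⟩

/-- `φ` fixes the coset `s B`. -/
theorem Good.coset [Finite K] {φ : MulAut K} (hφ : Good p U φ) (h : Split P p U) {s : K}
    (hs : s ∈ P.S) : s⁻¹ * φ s ∈ P.B := by
  obtain ⟨V, hV⟩ := h.node s hs
  have h1 : φ s ∈ P.parabolic {s} := hφ.apply_mem_parabolic h hs s (mem_parabolic_self P s)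
  have h2 : φ s ∉ P.B := by
    intro hb
    apply not_mem_B P hs
    have := hφ.inv.apply_mem_B h hb
    rwa [MulAut.inv_apply_self] at this
  have hUN : ∀ b ∈ P.B, ∃ u ∈ U, u⁻¹ * b ∈ P.N := h.cover
  obtain ⟨u, hu, b, hb, hub⟩ := exists_of_mem_parabolic P h.le hUN hs h1 h2
  have h3 : ∀ k : ℕ, ∃ c ∈ P.B, (φ ^ k) s = u ^ k * s * c := by
    intro k
    induction k with
    | zero => exact ⟨1, one_mem _, by simp⟩
    | succ k ih =>
      obtain ⟨c, hc, hk⟩ := ih
      refine ⟨b * φ c, mul_mem hb (hφ.apply_mem_B h hc), ?_⟩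
      rw [pow_succ', MulAut.mul_apply, hk, map_mul, map_mul, map_pow, hφ.fix u hu, hub, pow_succ]
      group
  obtain ⟨n, hn, hφn⟩ := hφ.ord
  obtain ⟨c, hc, hk⟩ := h3 n
  rw [hφn, MulAut.one_apply] at hk
  have h4 : s⁻¹ * u ^ n * s = c⁻¹ := by
    have : s⁻¹ * u ^ n * s = s⁻¹ * (u ^ n * s * c) * c⁻¹ := by group
    rw [this, ← hk]; group
  have h5 : u ^ n ∈ V := hV.stab _ (pow_mem hu n) (by rw [h4]; exact inv_mem hc)
  have h6 : u ∈ V := mem_of_pow_mem h.isP hu hn h5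
  rw [hub]
  have h7 : s⁻¹ * (u * s * b) = (s⁻¹ * u * s) * b := by group
  rw [h7]
  exact mul_mem (h.le (hV.le (hV.conj_s u h6))) hb

theorem Good.coset_parabolic [Finite K] {φ : MulAut K} (hφ : Good p U φ) (h : Split P p U) {s : K}
    (hs : s ∈ P.S) {g : K} (hg : g ∈ P.parabolic {s}) : g⁻¹ * φ g ∈ P.B := by
  by_cases hgB : g ∈ P.B
  · exact mul_mem (inv_mem hgB) (hφ.apply_mem_B h hgB)
  · obtain ⟨u, hu, b, hb, rfl⟩ := exists_of_mem_parabolic P h.le h.cover hs hg hgB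
    have h1 : (u * s * b)⁻¹ * φ (u * s * b) = b⁻¹ * (s⁻¹ * φ s) * φ b := by
      rw [map_mul, map_mul, hφ.fix u hu]; group
    rw [h1]
    exact mul_mem (mul_mem (inv_mem hb) (hφ.coset h hs)) (hφ.apply_mem_B h hb)

theorem pow_conj_eq_one {φ ψ : MulAut K} {n : ℕ} (h : φ ^ n = 1) : (ψ⁻¹ * φ * ψ) ^ n = 1 := by
  have h1 : ψ⁻¹ * φ * ψ = ψ⁻¹ * φ * (ψ⁻¹)⁻¹ := by rw [inv_inv]
  rw [h1, conj_pow, h]
  group

theorem conj_apply' (φ : MulAut K) (k x : K) :
    ((MulAut.conj k)⁻¹ * φ * MulAut.conj k) x = k⁻¹ * φ (k * x * k⁻¹) * k := by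
  rw [← map_inv, MulAut.mul_apply, MulAut.mul_apply, MulAut.conj_apply, MulAut.conj_apply]
  group

theorem Good.conj_B {φ : MulAut K} (hφ : Good p U φ) (h : Split P p U) {b : K} (hb : b ∈ P.B) :
    Good p U ((MulAut.conj b)⁻¹ * φ * MulAut.conj b) := by
  refine ⟨?_, fun u hu => ?_⟩
  · obtain ⟨n, hn, hφn⟩ := hφ.ord
    exact ⟨n, hn, SplitAut.pow_conj_eq_one hφn⟩
  · rw [conj_apply', hφ.fix _ (h.norm b hb u hu)]
    group

theorem Good.conj_s [Finite K] {φ : MulAut K} (hφ : Good p U φ) (h : Split P p U) {s : K}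
    (hs : s ∈ P.S) : Good p U ((MulAut.conj s)⁻¹ * φ * MulAut.conj s) := by
  obtain ⟨V, hV⟩ := h.node s hs
  set ψ : MulAut K := (MulAut.conj s)⁻¹ * φ * MulAut.conj s with hψ
  obtain ⟨n, hn, hφn⟩ := hφ.ord
  have hψn : ψ ^ n = 1 := SplitAut.pow_conj_eq_one hφn
  set c : K := s⁻¹ * φ s with hc
  have hcB : c ∈ P.B := hφ.coset h hs
  have hss := mem_parabolic_self P s
  have hBs := B_le_parabolic P {s}
  have hψV : ∀ v ∈ V, ψ v = v := by
    intro v hv
    rw [hψ, conj_apply']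
    have h1 : (s⁻¹)⁻¹ * v * s⁻¹ ∈ V := hV.conj_mem (inv_mem hss) hv
    rw [inv_inv] at h1
    rw [hφ.fix _ (hV.le h1)]
    group
  have hψU : ∀ u ∈ U, ψ u = c * u * c⁻¹ := by
    intro u hu
    rw [hψ, conj_apply', map_mul, map_mul, map_inv, hφ.fix u hu, hc]
    group
  have hcs : s⁻¹ * c * s ∈ P.B := by
    have h1 : (s * s)⁻¹ * φ (s * s) ∈ P.B := hφ.coset_parabolic h hs (mul_mem hss hss)
    have h2 : s⁻¹ * c * s = (s * s)⁻¹ * φ (s * s) * c⁻¹ := by
      rw [map_mul, hc]; group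
    rw [h2]
    exact mul_mem h1 (inv_mem hcB)
  have hmod : ∀ u ∈ U, u⁻¹ * ψ u ∈ V := by
    intro u hu
    rw [hψU u hu]
    have h0 : u⁻¹ * (c * u * c⁻¹) ∈ U := mul_mem (inv_mem hu) (h.norm c hcB u hu)
    apply hV.stab _ h0
    have h1 : (s * u * s)⁻¹ * φ (s * u * s) ∈ P.B :=
      hφ.coset_parabolic h hs (mul_mem (mul_mem hss (hBs (h.le hu))) hss)
    have h2 : s⁻¹ * (u⁻¹ * (c * u * c⁻¹)) * s =
        (s * u * s)⁻¹ * φ (s * u * s) * c⁻¹ * (s⁻¹ * c * s)⁻¹ := by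
      rw [map_mul, map_mul, hφ.fix u hu, hc]
      generalize φ s = a
      simp only [mul_inv_rev, inv_inv, mul_assoc, inv_mul_cancel_left, mul_inv_cancel_left,
        inv_mul_cancel, mul_inv_cancel, mul_one, one_mul]
    rw [h2]
    exact mul_mem (mul_mem h1 (inv_mem hcB)) (inv_mem hcs)
  refine ⟨⟨n, hn, hψn⟩, fun u hu => ?_⟩
  set v : K := u⁻¹ * ψ u with hv
  have hvV : v ∈ V := hmod u hu
  have hk : ∀ k : ℕ, (ψ ^ k) u = u * v ^ k := by
    intro k
    induction k with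
    | zero => simp
    | succ k ih =>
      rw [pow_succ', MulAut.mul_apply, ih, map_mul, map_pow, hψV v hvV, pow_succ', ← mul_assoc]
      congr 1
      rw [hv]; group
  have h1 := hk n
  rw [hψn, MulAut.one_apply] at h1
  have h2 : v ^ n = 1 := by
    have : u * v ^ n = u * 1 := by rw [← h1, mul_one]
    exact mul_left_cancel this
  have h3 : v = 1 := eq_one_of_pow h.isP (hV.le hvV) hn h2
  have h4 : ψ u = u * v := by rw [hv]; group
  rw [h4, h3, mul_one]

theorem Good.conj_all [Finite K] (h : Split P p U) (k : K) : ∀ φ : MulAut K, Good p U φ →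
    Good p U ((MulAut.conj k)⁻¹ * φ * MulAut.conj k) := by
  let T : Submonoid K :=
    { carrier := {k | ∀ φ : MulAut K, Good p U φ → Good p U ((MulAut.conj k)⁻¹ * φ * MulAut.conj k)}
      mul_mem' := by
        intro a b ha hb φ hφ
        have h1 := hb _ (ha φ hφ)
        have h2 : (MulAut.conj b)⁻¹ * ((MulAut.conj a)⁻¹ * φ * MulAut.conj a) * MulAut.conj b =
            (MulAut.conj (a * b))⁻¹ * φ * MulAut.conj (a * b) := by
          rw [map_mul]; group
        rwa [h2] at h1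
      one_mem' := by
        intro φ hφ
        simpa using hφ }
  have hinv : ∀ a ∈ T, a⁻¹ ∈ T := by
    intro a ha
    have h1 : a⁻¹ = a ^ (orderOf a - 1) := by
      rw [inv_eq_iff_mul_eq_one, ← pow_succ', Nat.sub_add_cancel (orderOf_pos a), pow_orderOf_eq_one]
    rw [h1]
    exact T.pow_mem ha _
  let T' : Subgroup K := { T with inv_mem' := fun {a} ha => hinv a ha }
  have htop : P.B ⊔ Subgroup.closure P.S ≤ T' := by
    refine sup_le ?_ ((Subgroup.closure_le _).2 ?_)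
    · intro b hb φ hφ
      exact hφ.conj_B h hb
    · intro s hs φ hφ
      exact hφ.conj_s h hs
  rw [sup_closure_eq_top] at htop
  exact htop (Subgroup.mem_top k)

/-- An automorphism of order prime to `p` fixing `U` elementwise is trivial. -/
theorem Good.eq_one [Finite K] {φ : MulAut K} (hφ : Good p U φ) (h : Split P p U) : φ = 1 := by
  have hfix : ∀ g k : K, ∀ u ∈ U, (g * (φ k * k⁻¹) * g⁻¹) * u = u * (g * (φ k * k⁻¹) * g⁻¹) := by
    intro g k u hu
    have h1 := Good.conj_all h g⁻¹ φ hφ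
    have h2 := (Good.conj_all h (g * k)⁻¹ φ hφ).inv
    have h3 : MulAut.conj (g * (φ k * k⁻¹) * g⁻¹) =
        ((MulAut.conj g⁻¹)⁻¹ * φ * MulAut.conj g⁻¹) *
          ((MulAut.conj (g * k)⁻¹)⁻¹ * φ * MulAut.conj (g * k)⁻¹)⁻¹ := by
      have h5 : ((MulAut.conj (g * k)⁻¹)⁻¹ * φ * MulAut.conj (g * k)⁻¹)⁻¹ =
          (MulAut.conj (g * k)⁻¹)⁻¹ * φ⁻¹ * MulAut.conj (g * k)⁻¹ := by group
      rw [h5]
      apply MulEquiv.ext
      intro x
      rw [MulAut.mul_apply, conj_apply', conj_apply', MulAut.conj_apply]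
      simp only [map_mul, map_inv, MulAut.apply_inv_self, inv_inv, mul_inv_rev]
      group
    have h4 : MulAut.conj (g * (φ k * k⁻¹) * g⁻¹) u = u := by
      rw [h3, MulAut.mul_apply, h2.fix u hu, h1.fix u hu]
    rw [MulAut.conj_apply] at h4
    exact (mul_inv_eq_iff_eq_mul.1 h4)
  apply MulEquiv.ext
  intro k
  have hmem : φ k * k⁻¹ ∈ P.B.normalCore := by
    intro g
    rw [mem_B_iff h]
    intro u
    constructor
    · intro hu
      rw [hfix g k u hu, mul_inv_cancel_right]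
      exact hu
    · intro hu
      set x : K := g * (φ k * k⁻¹) * g⁻¹ with hx
      have h1 := hfix g k _ hu
      rw [← hx] at h1
      have h2 : x * u = x * u * x⁻¹ * x := by group
      have h3 : x * (x * u * x⁻¹) = x * (u * x * x⁻¹ * 1) * 1 → True := fun _ => trivial
      have h4 : x * u * x⁻¹ = u := by
        have h5 : x * (x * u * x⁻¹) = x * u := by
          rw [h1]; group
        exact mul_left_cancel h5
      rwa [h4] at hu
  rw [h.core, Subgroup.mem_bot, mul_inv_eq_one] at hmem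
  exact hmem

theorem eq_of_le [Finite K] [Fact p.Prime] (h : Split P p U) {Q : Subgroup K} (hQ : IsPGroup p Q)
    (hUQ : U ≤ Q) : U = Q := by
  by_contra hne
  have hlt : U.subgroupOf Q < ⊤ := by
    rw [lt_top_iff_ne_top]
    intro he
    exact hne (le_antisymm hUQ (Subgroup.subgroupOf_eq_top.1 he))
  have hnil : Group.IsNilpotent Q := hQ.isNilpotent
  have h1 := Group.normalizerCondition_of_isNilpotent (G := Q) _ hlt
  obtain ⟨x, hx, hxU⟩ := SetLike.exists_of_lt h1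
  apply hxU
  rw [Subgroup.mem_subgroupOf]
  obtain ⟨m, hm⟩ := hQ x
  have hm' : (x : K) ^ p ^ m = 1 := by simpa using congrArg Subtype.val hm
  have hxB : (x : K) ∈ P.B := by
    rw [mem_B_iff h]
    intro u
    rw [Subgroup.mem_normalizer_iff] at hx
    constructor
    · intro hu
      have := (hx ⟨u, hUQ hu⟩).1 hu
      exact this
    · intro hu
      have huQ : u ∈ Q := by
        have : u = (x : K)⁻¹ * ((x : K) * u * (x : K)⁻¹) * x := by group
        rw [this]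
        exact mul_mem (mul_mem (inv_mem x.2) (hUQ hu)) x.2
      exact (hx ⟨u, huQ⟩).2 hu
  exact h.mem_of_pow hxB hm'

/-- **Main theorem.** -/
theorem eq_one_of_hasSplit [Finite K] [hp : Fact p.Prime] (h : HasSplit p K) (α : MulAut K)
    (hα : ¬ p ∣ orderOf α) (Q : Sylow p K) (hfix : ∀ x ∈ (Q : Subgroup K), α x = x) : α = 1 := by
  obtain ⟨P, U, -, hS⟩ := h
  obtain ⟨R, hR⟩ := hS.isP.exists_le_sylow
  have hUR : U = (R : Subgroup K) := eq_of_le hS R.isPGroup' hR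
  obtain ⟨k, hk⟩ := MulAction.exists_smul_eq K R Q
  have hmem : ∀ u ∈ U, k * u * k⁻¹ ∈ (Q : Subgroup K) := by
    intro u hu
    rw [hUR] at hu
    rw [← hk, Sylow.smul_def, Sylow.pointwise_smul_def]
    exact ⟨u, hu, rfl⟩
  have hgood : Good p U ((MulAut.conj k)⁻¹ * α * MulAut.conj k) := by
    refine ⟨⟨orderOf α, ?_, SplitAut.pow_conj_eq_one (pow_orderOf_eq_one α)⟩, fun u hu => ?_⟩
    · exact ((Nat.Prime.coprime_iff_not_dvd hp.1).2 hα).symm
    · rw [conj_apply', hfix _ (hmem u hu)]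
      group
  have h1 := hgood.eq_one hS
  have h2 : α = MulAut.conj k * ((MulAut.conj k)⁻¹ * α * MulAut.conj k) * (MulAut.conj k)⁻¹ := by group
  rw [h2, h1]
  group

end Cfsg.Agent.H979.SplitAut
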