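import Cfsg.Agent.MThirteen.FiveRow
import Cfsg.Agent.H573.Spor.BFive
import Cfsg.Agent.OddHalf.D4.Spor.FiTF

/-!
# Centralizers of involutions of `Th`, `Fi24'`: primes (helper979)

* `card_inv_th` : `|C_Th(t)| = 92897280`;
* `fi24_cases` : an odd prime dividing `|C(t)|`, `t` an involution of `Fi24'`, divides `|Fi22|` or `3265920 · 3`;
* `card_XT_dvd` : `|C(x) ∩ C(t)|` divides `|x|` times the order of the centralizer of the image of `t` in `C(x)/⟨x⟩`.
-/

set_option autoImplicit false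
set_option maxRecDepth 100000

namespace Cfsg.Agent.H979.BAdj

open Subgroup Cfsg Cfsg.Agent.LThree Cfsg.Agent.LThreeMB Cfsg.Agent.MonsterU Cfsg.Agent.MonsterU.Ch
open Cfsg.Agent.MonsterU.Lam2 (L2 IsType)
open Cfsg.Spor (Co1)
open Cfsg.Agent.LThreeB (XT mem_XT centXT')

universe u v

theorem card_inv_th {t : Spor.Th} (ht : orderOf t = 2) :
    Nat.card ↥(centralizer ({t} : Set Spor.Th)) = 92897280 := by
  rw [← MThirteen.card_cent_conj (MonsterX.ThOneClass.oneClass _ _ MonsterX.ThOneClass.orderOf_a ht)]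
  obtain ⟨Q, hQ, hc, -, -, ⟨e⟩⟩ := MonsterX.ThOneClass.struct
  rw [Subgroup.card_eq_card_quotient_mul_card_subgroup Q, hc, Nat.card_congr e.toEquiv,
    nat_card_alternatingGroup, Nat.card_fin]
  decide

open Cfsg.Agent.R08 Cfsg.Agent.R08.FiTwentyFour in
/-- products of two commuting transpositions: elements of odd order of the centralizer are in `Cab` -/
theorem dvd_pair {a b : Spor.Fi24} (P : Cfsg.Agent.R08.TetFi24A.At a b) {t : Spor.Fi24'}
    (ht : (t : Spor.Fi24) = a * b) {q : ℕ} (hq : q.Prime) (hq2 : q ≠ 2)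
    (hd : q ∣ Nat.card ↥(centralizer ({t} : Set Spor.Fi24'))) : q ∣ 2 * 64561751654400 := by
  have : Fact q.Prime := ⟨hq⟩
  have := finite_Fi24
  have : Finite Spor.Fi24' := inferInstance
  -- squares in `C(t)` are in `Cab`
  have sqm : ∀ y : Spor.Fi24', y * t = t * y → ((y * y : Spor.Fi24') : Spor.Fi24) ∈ Cab a b := by
    intro y hy
    have h1 := CTwoTab.FiTF.fix_or_swap P ht (mem_centralizer_singleton_iff.2 hy)
    have h2 : ((y * y : Spor.Fi24') : Spor.Fi24) * a * ((y * y : Spor.Fi24') : Spor.Fi24)⁻¹ = a ∧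
        ((y * y : Spor.Fi24') : Spor.Fi24) * b * ((y * y : Spor.Fi24') : Spor.Fi24)⁻¹ = b := by
      have e : ∀ c : Spor.Fi24, ((y * y : Spor.Fi24') : Spor.Fi24) * c * ((y * y : Spor.Fi24') : Spor.Fi24)⁻¹ =
          (y : Spor.Fi24) * ((y : Spor.Fi24) * c * (y : Spor.Fi24)⁻¹) * (y : Spor.Fi24)⁻¹ := by
        intro c
        rw [Subgroup.coe_mul]
        group
      rw [e, e]
      rcases h1 with ⟨h3, h4⟩ | ⟨h3, h4⟩ <;> simp only [h3, h4, and_self]
    rw [mem_Cab]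
    exact ⟨mem_commutator_iff.1 (y * y : Spor.Fi24').2, mul_inv_eq_iff_eq_mul.1 h2.1, mul_inv_eq_iff_eq_mul.1 h2.2⟩
  obtain ⟨x, hx⟩ := exists_prime_orderOf_dvd_card' (G := ↥(centralizer ({t} : Set Spor.Fi24'))) q hd
  have hxo : orderOf (x : Spor.Fi24') = q := by rw [Subgroup.orderOf_coe, hx]
  have hxq : (x : Spor.Fi24') ^ q = 1 := by rw [← hxo, pow_orderOf_eq_one]
  obtain ⟨m, hm⟩ := hq.odd_of_ne_two hq2
  have hxe : (x : Spor.Fi24') = (x : Spor.Fi24') ^ (m + 1) * (x : Spor.Fi24') ^ (m + 1) := by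
    rw [← pow_add, show m + 1 + (m + 1) = q + 1 by omega, pow_succ, hxq, one_mul]
  have hxt : Commute (x : Spor.Fi24') t := mem_centralizer_singleton_iff.1 x.2
  have hxm : ((x : Spor.Fi24') : Spor.Fi24) ∈ Cab a b := by
    rw [hxe]
    exact sqm _ ((hxt.pow_left (m + 1)).eq)
  rw [← OddHalf.D4.Spor.FiTF.card_Cab P]
  have h1 : orderOf (⟨((x : Spor.Fi24') : Spor.Fi24), hxm⟩ : ↥(Cab a b)) = q := by
    rw [Subgroup.orderOf_mk, Subgroup.orderOf_coe, hxo]
  rw [← h1]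
  exact orderOf_dvd_natCard _

section

variable {G : Type u} [Group G] {Q : Subgroup G} {z : G} {eta : G → L2}
  {pi : Subgroup.centralizer ({z} : Set G) →* Co1}

theorem card_tt [Finite G] (h : Chart Q z eta pi) {x : Subgroup.centralizer ({z} : Set G)}
    (hx : orderOf x = 3) (hfr : fr (pi x) = 2 ^ 12) (hs : CTwelve (pi x)) :
    orderOf (tt x) = 2 ∧ Nat.card ↥(centralizer ({tt x} : Set (XX (x : G)))) = 2 * (3265920 * 3) * 2 ^ 13 := by
  have : Fact (Nat.Prime 2) := ⟨Nat.prime_two⟩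
  have : Fact (Nat.Prime 3) := ⟨Nat.prime_three⟩
  have hx3 := cube_eq_one hx
  have L := large h hx3 hs.faith
  have hcard : Nat.card ↥(PB Q (x : G)) = 2 ^ 13 := by rw [card_PB h hx3, hfr]; norm_num
  obtain ⟨ρ, hρ, -, hk⟩ := exists_rho h hx3
  obtain ⟨E, M, hE, hM, K, _, _, hEM, hE3, hM2, hK, ⟨e0⟩⟩ := hs.chain
  have hck : Nat.card ↥ρ.ker = 2 ^ 13 := by
    rw [hk, LargeExtra.Nine.ToCent.card_subgroupOf L, hcard]
  have hEn : (E.subgroupOf M).Normal := inferInstance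
  have hE3' : Nat.card ↥(E.subgroupOf M) = 3 := by
    rw [Nat.card_congr (subgroupOfEquivOfLe hEM).toEquiv, hE3]
  refine ⟨LargeExtra.Base.orderOf_z L, ?_⟩
  have h1 : Nat.card ↥(centralizer ({tt x} : Set (XX (x : G)))) = Nat.card (XX (pi x)) * 2 ^ 13 := by
    rw [← hck, Subgroup.card_eq_card_quotient_mul_card_subgroup ρ.ker,
      Nat.card_congr (QuotientGroup.quotientKerEquivOfSurjective ρ hρ).toEquiv]
  have h2 : Nat.card (XX (pi x)) = 2 * (3265920 * 3) := by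
    rw [← M.index_mul_card, hM2, Subgroup.card_eq_card_quotient_mul_card_subgroup (E.subgroupOf M),
      Nat.card_congr e0.toEquiv, LThreeB.card_psu hK, hE3']
  rw [h1, h2]

/-- **the involutions of `Fi24'`** -/
theorem fi24_cases [Finite G] [IsSimpleGroup G] (h : Chart Q z eta pi) (I : CoOne) {s : Spor.Fi24'}
    (hs : orderOf s = 2) {q : ℕ} (hq : q.Prime) (hq2 : q ≠ 2)
    (hd : q ∣ Nat.card ↥(centralizer ({s} : Set Spor.Fi24'))) : q ∣ 2 * 64561751654400 := by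
  rcases CTwoTab.FiTF.classes s hs with ⟨a, b, P, h1⟩ | ⟨c, hc⟩
  · exact dvd_pair P h1 hq hq2 hd
  · obtain ⟨r, hr, hfs, ht, h4⟩ := I.psu
    obtain ⟨x, hx, rfl⟩ := KPair.exists_order_three h hr
    obtain ⟨h1, h3⟩ := card_tt h hx hfs ht
    obtain ⟨e⟩ := iso_fi24 h hx hfs (by rw [hfs]; exact I.twelve) ht h4
    have h5 : Nat.card ↥(centralizer ({e (tt x)} : Set Spor.Fi24')) = 2 * (3265920 * 3) * 2 ^ 13 := by
      rw [← LThreeB.card_centralizer_congr e, h3]
    have hq' : q ∣ 2 * (3265920 * 3) * 2 ^ 13 → q ∣ 2 * 64561751654400 := by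
      intro h6
      have h7 : q ∣ 2 ^ 14 * 9797760 := by
        rwa [show 2 * (3265920 * 3) * 2 ^ 13 = 2 ^ 14 * 9797760 by norm_num] at h6
      rcases hq.dvd_mul.1 h7 with h8 | h8
      · exact absurd ((Nat.prime_dvd_prime_iff_eq hq Nat.prime_two).1 (hq.dvd_of_dvd_pow h8)) hq2
      · exact h8.trans (by norm_num)
    rcases CTwoTab.FiTF.classes (e (tt x)) (by rw [MulEquiv.orderOf_eq, h1]) with ⟨a, b, P, h6⟩ | ⟨c', hc'⟩
    · exfalso
      have h7 := LThreeB.dvd_pair P h6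
      rw [h5] at h7
      norm_num at h7
    · apply hq'
      rw [← h5, MThirteen.card_cent_conj (isConj_iff.2 ⟨c * c'⁻¹, ?_⟩ : IsConj (e (tt x)) s)]
      · exact hd
      · rw [hc', hc]
        group

end

/-- `|C(x) ∩ C(t)|` and the centralizer in `C(x)/⟨x⟩` -/
theorem card_XT_dvd {G : Type u} [Group G] [Finite G] {r : ℕ} (hr : r.Prime) (hr2 : r ≠ 2) {x t : G}
    (hx : orderOf x = r) (ht : orderOf t = 2) (hxt : x * t = t * x) :
    ∃ τ : XX x, orderOf τ = 2 ∧ Nat.card ↥(XT x t) ∣ r * Nat.card ↥(centralizer ({τ} : Set (XX x))) := by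
  obtain ⟨t', ht'⟩ : ∃ t' : ↥(centralizer ({x} : Set G)), (t' : G) = t :=
    ⟨⟨t, mem_centralizer_singleton_iff.2 hxt.symm⟩, rfl⟩
  have h1 : Nat.card ↥(XT x t) = Nat.card ↥(centralizer ({t'} : Set ↥(centralizer ({x} : Set G)))) := by
    rw [Nat.card_congr (centXT' t').toEquiv, ht']
  have h2 := H573.Spor.card_dvd_XX t'
  rw [hx] at h2
  refine ⟨QuotientGroup.mk t', ?_, by rw [h1]; exact h2⟩
  have : Fact (Nat.Prime 2) := ⟨Nat.prime_two⟩
  have ho' : orderOf t' = 2 := by rw [← Subgroup.orderOf_coe, ht', ht]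
  refine orderOf_eq_prime ?_ ?_
  · have h3 : t' ^ 2 = 1 := by rw [← ho', pow_orderOf_eq_one]
    exact congrArg (QuotientGroup.mk (s := Zx x)) h3
  · intro h3
    have h4 : t' ∈ Zx x := (QuotientGroup.eq_one_iff t').1 h3
    have h5 : orderOf t' ∣ Nat.card (Zx x) := by
      have h6 := orderOf_dvd_natCard (⟨t', h4⟩ : Zx x)
      rwa [Subgroup.orderOf_mk] at h6
    have h7 : Nat.card (Zx x) = r := by
      rw [Zx, Nat.card_zpowers, ← hx]
      exact Subgroup.orderOf_mk _ _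
    rw [h7, ho'] at h5
    exact hr2 ((Nat.prime_dvd_prime_iff_eq Nat.prime_two hr).1 h5).symm

end Cfsg.Agent.H979.BAdj
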