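import Mathlib
import Cfsg.Agent.H979.TwoLen5N

/-!
# Part 5A of helper552's plan for S4258
-/

set_option autoImplicit false
set_option linter.unusedSectionVars false
set_option linter.unusedVariables false

universe u

namespace Cfsg.Agent.H979.TwoLen5A

open Cfsg.Agent.H552 Cfsg.Agent.H979.TwoLenRA Cfsg.Agent.H979.TwoLenTR Cfsg.Agent.H979.TwoLen5N Module
open scoped commutatorElement

section Half

variable {q : ℕ} [Fact q.Prime] {W : Type*} [AddCommGroup W] [Module (ZMod q) W] [Finite W]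

/-- an involution `C` on `U` anticommuting with `ρ`: the dimension is at most twice the rank of `C - 1` -/
theorem half' (hq : q ≠ 2) (U K : Submodule (ZMod q) W) (C ρ : Module.End (ZMod q) W)
    (hCU : ∀ w ∈ U, C w ∈ U) (hCC : ∀ w ∈ U, C (C w) = w) (hρU : ∀ w ∈ U, ρ w ∈ U)
    (hρK : ∀ w, ρ w ∈ K → w ∈ K) (hρK' : ∀ w ∈ K, ρ w ∈ K)
    (hanti : ∀ w ∈ U, C (ρ w) = -ρ (C w)) {n : ℕ}
    (hn : finrank (ZMod q) ((LinearMap.range (C - 1)).map K.mkQ) ≤ n) :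
    finrank (ZMod q) (U.map K.mkQ) ≤ 2 * n := by
  set P := (U ⊓ LinearMap.ker (C - 1)).map K.mkQ with hP
  set N := (U ⊓ LinearMap.ker (C + 1)).map K.mkQ with hN
  have hkm : ∀ w, w ∈ LinearMap.ker (C - 1) ↔ C w = w := by
    intro w
    rw [LinearMap.mem_ker, LinearMap.sub_apply, Module.End.one_apply, sub_eq_zero]
  have hkp : ∀ w, w ∈ LinearMap.ker (C + 1) ↔ C w = -w := by
    intro w
    rw [LinearMap.mem_ker, LinearMap.add_apply, Module.End.one_apply, add_eq_zero_iff_eq_neg]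
  have h2 : (2 : ZMod q) ≠ 0 := two_ne hq
  have hle : U.map K.mkQ ≤ P ⊔ N := by
    rintro _ ⟨w, hw, rfl⟩
    have hp : w + C w ∈ U ⊓ LinearMap.ker (C - 1) := by
      refine ⟨add_mem hw (hCU w hw), ?_⟩
      rw [SetLike.mem_coe, hkm, map_add, hCC w hw, add_comm]
    have hm : w - C w ∈ U ⊓ LinearMap.ker (C + 1) := by
      refine ⟨sub_mem hw (hCU w hw), ?_⟩
      rw [SetLike.mem_coe, hkp, map_sub, hCC w hw, neg_sub]
    have e : w = (2 : ZMod q)⁻¹ • (w + C w) + (2 : ZMod q)⁻¹ • (w - C w) := by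
      rw [← smul_add]
      have : w + C w + (w - C w) = (2 : ZMod q) • w := by rw [two_smul]; abel
      rw [this, smul_smul, inv_mul_cancel₀ h2, one_smul]
    rw [e, map_add]
    exact Submodule.add_mem_sup ⟨_, Submodule.smul_mem _ _ hp, rfl⟩ ⟨_, Submodule.smul_mem _ _ hm, rfl⟩
  have h3 := Submodule.finrank_mono hle
  have h4 : finrank (ZMod q) ↥(P ⊔ N) ≤ finrank (ZMod q) P + finrank (ZMod q) N :=
    Submodule.finrank_add_le_finrank_add_finrank P N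
  let f : (W ⧸ K) →ₗ[ZMod q] (W ⧸ K) := Submodule.mapQ K K ρ (fun w hw => hρK' w hw)
  have hf : Function.Injective f := by
    rw [← LinearMap.ker_eq_bot, eq_bot_iff]
    intro x hx
    obtain ⟨w, rfl⟩ := Submodule.mkQ_surjective K x
    rw [LinearMap.mem_ker, Submodule.mkQ_apply, Submodule.mapQ_apply, Submodule.Quotient.mk_eq_zero] at hx
    rw [Submodule.mem_bot, Submodule.mkQ_apply, Submodule.Quotient.mk_eq_zero]
    exact hρK w hx
  have h5 : finrank (ZMod q) (P.map f) = finrank (ZMod q) P :=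
    (Submodule.equivMapOfInjective f hf P).symm.finrank_eq
  have h6 : P.map f ≤ N := by
    rintro _ ⟨_, ⟨w, ⟨hw, hw'⟩, rfl⟩, rfl⟩
    rw [SetLike.mem_coe, hkm] at hw'
    refine ⟨ρ w, ⟨hρU w hw, ?_⟩, ?_⟩
    · rw [SetLike.mem_coe, hkp, hanti w hw, hw']
    · rw [Submodule.mkQ_apply, Submodule.mkQ_apply, Submodule.mapQ_apply]
  have h7 := Submodule.finrank_mono h6
  have h8 : N ≤ (LinearMap.range (C - 1)).map K.mkQ := by
    rintro _ ⟨w, ⟨hw, hw'⟩, rfl⟩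
    rw [SetLike.mem_coe, hkp] at hw'
    refine ⟨w, ⟨-((2 : ZMod q)⁻¹ • w), ?_⟩, rfl⟩
    rw [LinearMap.sub_apply, Module.End.one_apply, map_neg, map_smul, hw', smul_neg, neg_neg, sub_neg_eq_add,
      ← add_smul, ← two_mul, mul_inv_cancel₀ h2, one_smul]
  have h9 := Submodule.finrank_mono h8
  omega

end Half

variable {k q : ℕ} [Fact q.Prime] {G : Type u} [Group G] [Finite G] {Q R : Subgroup G} {W : Type u}
  [AddCommGroup W] [Module (ZMod q) W] [Finite W] {σ : G →* Module.End (ZMod q) W} {ι : Type u}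
  {b : ι → W →ₗ[ZMod q] W →ₗ[ZMod q] ZMod q}

theorem ker_invz (h : WD k q Q R σ b) {y : G} (hy : IsTwo y) {i : ι} {w : W} (hw : w ∈ LinearMap.ker (b i)) :
    σ (y ^ 2 ^ k) w ∈ LinearMap.ker (b i) := by
  rw [LinearMap.mem_ker] at hw ⊢
  ext w'
  rw [← inv_apply σ (y ^ 2 ^ k) w', h.invz y hy, hw, LinearMap.zero_apply, LinearMap.zero_apply]

/-- multiplicativity of a weight -/
theorem wt_mul (h : WD k q Q R σ b) {Z₀ : Subgroup G} {α : G → ℤˣ} {w : W} (hw : w ∈ wt σ Z₀ α) (hw0 : w ≠ 0)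
    {a e : G} (ha : a ∈ Z₀) (he : e ∈ Z₀) : α (a * e) = α a * α e := by
  by_contra hne
  refine hw0 (eq_zero_of_sign_ne (q := q) h.q2 hne ?_)
  rw [← mem_wt.1 hw _ (mul_mem ha he), map_mul, Module.End.mul_apply, mem_wt.1 hw e he, map_zsmul,
    mem_wt.1 hw a ha, smul_smul, mul_comm (α a), Units.val_mul]

/-- a weight detecting a nontrivial element -/
theorem exists_neg (h : WD k q Q R σ b) {Z₀ : Subgroup G} (hZ₀R : Z₀ ≤ R)
    (hZ₀c : ∀ c ∈ Z₀, ∀ r ∈ R, c * r = r * c) (hZ₀2 : ∀ c ∈ Z₀, c ^ 2 = 1) {e : G} (he : e ∈ Z₀) (hne : e ≠ 1) :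
    ∃ α : G → ℤˣ, wt σ Z₀ α ≠ ⊥ ∧ α e = -1 := by
  have hσ : σ e ≠ 1 := fun h1 => hne (h.faithR e (hZ₀R he) h1)
  have hcomm : ∀ c ∈ Z₀, ∀ d ∈ Z₀, c * d = d * c := fun c hc d hd => hZ₀c c hc d (hZ₀R hd)
  have hee : ∀ w, σ e (σ e w) = w := by
    intro w
    rw [← Module.End.mul_apply, ← map_mul, ← pow_two, hZ₀2 e he, map_one, Module.End.one_apply]
  have hU0 : LinearMap.range (σ e - 1) ≠ ⊥ := by
    intro h1
    rw [LinearMap.range_eq_bot, sub_eq_zero] at h1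
    exact hσ h1
  obtain ⟨α, w, hwU, hw0, hw⟩ := exists_weight (q := q) h.q2 (R := Z₀) hcomm hZ₀2 σ (LinearMap.range (σ e - 1)) (by
    rintro r hr _ ⟨v, rfl⟩
    refine ⟨σ r v, ?_⟩
    rw [LinearMap.sub_apply, LinearMap.sub_apply, Module.End.one_apply, Module.End.one_apply, map_sub,
      ← Module.End.mul_apply, ← map_mul, hcomm e he r hr, map_mul, Module.End.mul_apply]) hU0
  refine ⟨α, ?_, ?_⟩
  · intro h1
    rw [h1, Submodule.mem_bot] at hw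
    exact hw0 hw
  · rcases Int.units_eq_one_or (α e) with h1 | h1
    · exfalso
      apply hw0
      have h2 := mem_wt.1 hw e he
      rw [h1] at h2
      obtain ⟨v, rfl⟩ := hwU
      apply eq_zero_of_neg_eq (q := q) h.q2
      have h3 : σ e ((σ e - 1) v) = -((σ e - 1) v) := by
        rw [LinearMap.sub_apply, Module.End.one_apply, map_sub, hee, neg_sub]
      rw [← h3, h2]
      simp
    · exact h1

/-- `y ^ 2 ^ k` centralizes `Z₀` -/
theorem lemA (h : WD k q Q R σ b) {Z₀ : Subgroup G} (hZ₀R : Z₀ ≤ R)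
    (hZ₀c : ∀ c ∈ Z₀, ∀ r ∈ R, c * r = r * c) (hZ₀2 : ∀ c ∈ Z₀, c ^ 2 = 1)
    (hbig : ∀ α : G → ℤˣ, wt σ Z₀ α ≠ ⊥ → ∃ i, 4 < wdim σ Z₀ α (b i)) {y : G} (hy : IsTwo y)
    (hyZ : y ∈ Subgroup.normalizer (Z₀ : Set G)) : ∀ c ∈ Z₀, y ^ 2 ^ k * c = c * y ^ 2 ^ k := by
  set z := y ^ 2 ^ k with hz
  have hzZ : z ∈ Subgroup.normalizer (Z₀ : Set G) := pow_mem hyZ _
  have hconj : ∀ c ∈ Z₀, z⁻¹ * c * z ∈ Z₀ := by
    intro c hc
    have h1 := (Subgroup.mem_normalizer_iff.1 (inv_mem hzZ) c).1 hc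
    rwa [inv_inv] at h1
  -- `z` fixes the weights
  have hfix : ∀ α : G → ℤˣ, wt σ Z₀ α ≠ ⊥ → ∀ c ∈ Z₀, α (z⁻¹ * c * z) = α c := by
    intro α hα c hc
    by_contra hne
    obtain ⟨i, hi⟩ := hbig α hα
    set K := LinearMap.ker (b i) with hK
    have hzK : ∀ w ∈ K, (σ z - 1) w ∈ K := by
      intro w hw
      rw [LinearMap.sub_apply, Module.End.one_apply]
      exact sub_mem (ker_invz h hy hw) hw
    let f : (W ⧸ K) →ₗ[ZMod q] (W ⧸ K) := Submodule.mapQ K K (σ z - 1) (fun w hw => hzK w hw)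
    let g : ((wt σ Z₀ α).map K.mkQ) →ₗ[ZMod q] (W ⧸ K) := f.domRestrict _
    have hg : Function.Injective g := by
      rw [← LinearMap.ker_eq_bot, eq_bot_iff]
      rintro ⟨_, w, hw, rfl⟩ hx
      have h1 : f (K.mkQ w) = 0 := hx
      rw [Submodule.mkQ_apply, Submodule.mapQ_apply, Submodule.Quotient.mk_eq_zero, LinearMap.sub_apply,
        Module.End.one_apply] at h1
      rw [Submodule.mem_bot]
      apply Subtype.ext
      change K.mkQ w = 0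
      rw [Submodule.mkQ_apply, Submodule.Quotient.mk_eq_zero]
      -- apply `c`
      have h2 := ker_inv h (hZ₀R hc) h1
      rw [map_sub, conj_apply σ c z w, mem_wt.1 hw _ (hconj c hc), mem_wt.1 hw c hc, map_zsmul] at h2
      have h3 := sub_mem h2 (K.smul_of_tower_mem ((α (z⁻¹ * c * z) : ℤˣ) : ℤ) h1)
      have e : ((α (z⁻¹ * c * z) : ℤˣ) : ℤ) • σ z w - ((α c : ℤˣ) : ℤ) • w -
          ((α (z⁻¹ * c * z) : ℤˣ) : ℤ) • (σ z w - w) =
          ((α (z⁻¹ * c * z) : ℤˣ) : ℤ) • w - ((α c : ℤˣ) : ℤ) • w := by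
        rw [smul_sub]; abel
      rw [e] at h3
      have h22 : w + w ∈ K → w ∈ K := by
        intro h4
        rw [← two_smul (ZMod q)] at h4
        exact (K.smul_mem_iff (two_ne h.q2)).1 h4
      apply h22
      rcases Int.units_eq_one_or (α (z⁻¹ * c * z)) with h5 | h5 <;> rcases Int.units_eq_one_or (α c) with h6 | h6
      · exact absurd (h5.trans h6.symm) hne
      · rw [h5, h6] at h3
        have e2 : ((1 : ℤˣ) : ℤ) • w - ((-1 : ℤˣ) : ℤ) • w = w + w := by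
          simp
        rwa [e2] at h3
      · rw [h5, h6] at h3
        have h7 := neg_mem h3
        have e2 : -(((-1 : ℤˣ) : ℤ) • w - ((1 : ℤˣ) : ℤ) • w) = w + w := by
          simp
        rwa [e2] at h7
      · exact absurd (h5.trans h6.symm) hne
    have h1 : finrank (ZMod q) ((wt σ Z₀ α).map K.mkQ) = finrank (ZMod q) (LinearMap.range g) :=
      (LinearMap.finrank_range_of_inj hg).symm
    have h2 : LinearMap.range g ≤ (LinearMap.range (σ z - 1)).map K.mkQ := by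
      rintro _ ⟨⟨_, w, hw, rfl⟩, rfl⟩
      refine ⟨(σ z - 1) w, ⟨w, rfl⟩, ?_⟩
      change K.mkQ ((σ z - 1) w) = f (K.mkQ w)
      rw [Submodule.mkQ_apply, Submodule.mkQ_apply, Submodule.mapQ_apply]
    have h3 := Submodule.finrank_mono h2
    have h4 := h.E2 y hy i
    have h5 : 4 < finrank (ZMod q) ((wt σ Z₀ α).map K.mkQ) := hi
    rw [← hz, ← hK] at h4
    omega
  intro c hc
  by_contra hne
  have he : z⁻¹ * c * z * c⁻¹ ∈ Z₀ := mul_mem (hconj c hc) (inv_mem hc)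
  have hne' : z⁻¹ * c * z * c⁻¹ ≠ 1 := by
    intro h1
    apply hne
    rw [mul_inv_eq_one] at h1
    have h2 : z * (z⁻¹ * c * z) = c * z := by group
    rw [← h2, h1]
  obtain ⟨α, hα, hαe⟩ := exists_neg h hZ₀R hZ₀c hZ₀2 he hne'
  obtain ⟨w, hw, hw0⟩ := Submodule.exists_mem_ne_zero_of_ne_bot hα
  have h1 := wt_mul h hw hw0 he hc
  rw [inv_mul_cancel_right, hfix α hα c hc, hαe] at h1
  rcases Int.units_eq_one_or (α c) with h2 | h2 <;> rw [h2] at h1 <;> exact absurd h1 (by decide)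

/-- an element of `R` commuting with `y ^ 2 ^ k` modulo `Z₀` commutes with it -/
theorem lemB (h : WD k q Q R σ b) {Z₀ : Subgroup G} (hZ₀R : Z₀ ≤ R)
    (hZ₀c : ∀ c ∈ Z₀, ∀ r ∈ R, c * r = r * c) (hZ₀2 : ∀ c ∈ Z₀, c ^ 2 = 1)
    (hbig : ∀ α : G → ℤˣ, wt σ Z₀ α ≠ ⊥ → ∃ i, 4 < wdim σ Z₀ α (b i)) {y : G} (hy : IsTwo y)
    (hyZ : y ∈ Subgroup.normalizer (Z₀ : Set G)) {c : G} (hc : c ∈ R) (hcz : ⁅c, y ^ 2 ^ k⁆ ∈ Z₀) :
    ⁅c, y ^ 2 ^ k⁆ = 1 := by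
  have hzc := lemA h hZ₀R hZ₀c hZ₀2 hbig hy hyZ
  set z := y ^ 2 ^ k with hz
  by_contra hne
  obtain ⟨α, hα, hαe⟩ := exists_neg h hZ₀R hZ₀c hZ₀2 hcz hne
  obtain ⟨i, hi⟩ := hbig α hα
  have hUz : ∀ w ∈ wt σ Z₀ α, σ z w ∈ wt σ Z₀ α := by
    intro w hw a ha
    rw [conj_apply σ a z w]
    have h1 : z⁻¹ * a * z = a := by rw [mul_assoc, ← hzc a ha, inv_mul_cancel_left]
    rw [h1, mem_wt.1 hw a ha, map_zsmul]
  have hUc : ∀ w ∈ wt σ Z₀ α, σ c w ∈ wt σ Z₀ α := by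
    intro w hw a ha
    rw [conj_apply σ a c w]
    have h1 : c⁻¹ * a * c = a := by rw [mul_assoc, hZ₀c a ha c hc, inv_mul_cancel_left]
    rw [h1, mem_wt.1 hw a ha, map_zsmul]
  have hzz : ∀ w, σ z (σ z w) = w := by
    intro w
    have h1 : z * z = 1 := by
      rw [hz, ← pow_add, ← two_mul, ← pow_succ']
      exact h.expo y hy
    rw [← Module.End.mul_apply, ← map_mul, h1, map_one, Module.End.one_apply]
  have h1 : wdim σ Z₀ α (b i) ≤ 2 * 2 := by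
    refine half' (q := q) h.q2 (wt σ Z₀ α) (LinearMap.ker (b i)) (σ z) (σ c) hUz (fun w _ => hzz w) hUc
      (fun w hw => ker_inv' h hc hw) (fun w hw => ker_inv h hc hw) ?_ (h.E2 y hy i)
    intro w hw
    have h2 : σ c (σ z w) = σ ⁅c, z⁆ (σ z (σ c w)) := by
      rw [← Module.End.mul_apply, ← map_mul, ← Module.End.mul_apply, ← map_mul, ← Module.End.mul_apply,
        ← map_mul]
      congr 2
      rw [commutatorElement_def]
      group
    rw [mem_wt.1 (hUz _ (hUc w hw)) _ hcz, hαe] at h2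
    rw [h2]
    simp
  omega

/-- **Part 5A of the plan for S4258.** -/
theorem five_a (h : WD k q Q R σ b) (Z₀ : Subgroup G) (hZ₀R : Z₀ ≤ R)
    (hZ₀c : ∀ c ∈ Z₀, ∀ r ∈ R, c * r = r * c) (hZ₀2 : ∀ c ∈ Z₀, c ^ 2 = 1)
    (hRZ : ∀ r ∈ R, ∀ s ∈ R, ⁅r, s⁆ ∈ Z₀)
    (hbig : ∀ α : G → ℤˣ, wt σ Z₀ α ≠ ⊥ → ∃ i, 4 < wdim σ Z₀ α (b i)) {x : G} (hx : IsTwo x)
    (hxR : x ∈ Subgroup.normalizer (R : Set G)) (hxZ : x ∈ Subgroup.normalizer (Z₀ : Set G)) :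
    (∀ c ∈ Z₀, x ^ 2 ^ k * c = c * x ^ 2 ^ k) ∧ ∀ m ∈ R, IsTwo (m * x) → ∀ c ∈ R, ⁅c, x ^ 2 ^ k⁆ ∈ Z₀ →
      ((m * x) ^ 2 ^ k * (x ^ 2 ^ k)⁻¹) * c = c * ((m * x) ^ 2 ^ k * (x ^ 2 ^ k)⁻¹) := by
  refine ⟨lemA h hZ₀R hZ₀c hZ₀2 hbig hx hxZ, ?_⟩
  intro m hm hmx c hc hcx
  have hmZ : m ∈ Subgroup.normalizer (Z₀ : Set G) := by
    rw [Subgroup.mem_normalizer_iff]
    intro a
    constructor
    · intro ha
      rwa [← hZ₀c a ha m hm, mul_inv_cancel_right]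
    · intro ha
      have h1 := hZ₀c _ ha m hm
      have h2 : m⁻¹ * (m * a * m⁻¹ * m) = a := by group
      rw [← h2, h1, inv_mul_cancel_left]
      exact ha
  have hyZ : m * x ∈ Subgroup.normalizer (Z₀ : Set G) := mul_mem hmZ hxZ
  have hr : ∀ n : ℕ, (m * x) ^ n * (x ^ n)⁻¹ ∈ R := by
    intro n
    induction n with
    | zero => simp [one_mem]
    | succ n ih =>
      have e : (m * x) ^ (n + 1) * (x ^ (n + 1))⁻¹ = m * (x * ((m * x) ^ n * (x ^ n)⁻¹) * x⁻¹) := by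
        rw [pow_succ', pow_succ, mul_inv_rev]
        have : x ^ n * x = x * x ^ n := (pow_succ x n).symm.trans (pow_succ' x n)
        have h2 : x⁻¹ * (x ^ n)⁻¹ = (x ^ n)⁻¹ * x⁻¹ := by rw [← mul_inv_rev, ← mul_inv_rev, this]
        rw [h2]
        group
      rw [e]
      exact mul_mem hm ((Subgroup.mem_normalizer_iff.1 hxR _).1 ih)
  set r := (m * x) ^ 2 ^ k * (x ^ 2 ^ k)⁻¹ with hrdef
  have hrR : r ∈ R := hr _
  have h1 : ⁅c, x ^ 2 ^ k⁆ = 1 := lemB h hZ₀R hZ₀c hZ₀2 hbig hx hxZ hc hcx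
  have hyx : (m * x) ^ 2 ^ k = r * x ^ 2 ^ k := by rw [hrdef, inv_mul_cancel_right]
  have h2 : ⁅c, (m * x) ^ 2 ^ k⁆ = ⁅c, r⁆ := by
    have e : ⁅c, r * x ^ 2 ^ k⁆ = ⁅c, r⁆ * (r * ⁅c, x ^ 2 ^ k⁆ * r⁻¹) := by
      simp only [commutatorElement_def]; group
    rw [hyx, e, h1, mul_one, mul_inv_cancel, mul_one]
  have h3 : ⁅c, (m * x) ^ 2 ^ k⁆ = 1 :=
    lemB h hZ₀R hZ₀c hZ₀2 hbig hmx hyZ hc (by rw [h2]; exact hRZ c hc r hrR)
  rw [h2, commutatorElement_eq_one_iff_mul_comm] at h3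
  exact h3.symm

end Cfsg.Agent.H979.TwoLen5A
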